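/-
Elements of prime power order for the characteristic in the centraliser of a toral element.
-/
import Cfsg.Agent.Lib.Chev.OddInvol.Cent
import Mathlib.GroupTheory.PGroup
import Mathlib.GroupTheory.Index

set_option autoImplicit false

namespace CfsgLib.Chev.G2Spec

open Cfsg.Lie Matrix CfsgLib.Chev

/-- a `p`-element is conjugate into a subgroup of index prime to `p` -/
theorem pconj_into {G : Type*} [Group G] [Finite G] (T : Subgroup G) {p M : ℕ} [Fact p.Prime]
    (hM : Nat.card G = Nat.card T * M) (hp : ¬ p ∣ M) {x : G} {k : ℕ} (hx : x ^ p ^ k = 1) :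
    ∃ g : G, g * x * g⁻¹ ∈ T := by
  have hi : T.index = M := by
    have h := T.card_mul_index
    rw [hM] at h
    exact Nat.eq_of_mul_eq_mul_left Nat.card_pos h
  have hP : IsPGroup p (Subgroup.zpowers x) := by
    obtain ⟨j, -, hj⟩ := (Nat.dvd_prime_pow (Fact.out : p.Prime) (m := k)
        (i := Nat.card (Subgroup.zpowers x))).1
      (by rw [Nat.card_zpowers]; exact orderOf_dvd_of_pow_eq_one hx)
    exact IsPGroup.of_card hj
  obtain ⟨c, hc⟩ := hP.nonempty_fixed_point_of_prime_not_dvd_card (G ⧸ T)
    (by rw [← Subgroup.index, hi]; exact hp)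
  induction c using QuotientGroup.induction_on with
  | _ g =>
    refine ⟨g⁻¹, ?_⟩
    have h : QuotientGroup.mk (x * g) = (QuotientGroup.mk g : G ⧸ T) :=
      hc ⟨x, Subgroup.mem_zpowers x⟩
    have := inv_mem ((QuotientGroup.eq).1 h)
    rw [_root_.mul_inv_rev, inv_inv] at this
    rwa [inv_inv, mul_assoc]

variable {D : ChevalleyDatum} {A : Aux} {L : Type*} [Field L] [Fintype L]

/-- in the centraliser of a toral element, the elements of `p`-power order lie in a conjugate of the
centralised positive root groups -/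
theorem cent_conj (h : Std D A) {p : ℕ} [Fact p.Prime] [CharP L p] (c : Fin D.rank → Lˣ)
    (hH : ∀ w : Weyl h.good, (∀ r : Fin D.nroots, chi D A c (w.1 r).val = chi D A c r.val) →
      (∀ r : Fin D.nroots, D.IsPosRoot r.val → chi D A c r.val = 1 → D.IsPosRoot (w.1 r).val) → w = 1)
    {u : GL D.Idx L} (hu : u ∈ D.group L) {k : ℕ} (huk : u ^ p ^ k = 1)
    (hc : u * tor D A c = tor D A c * u) :
    ∃ z, ∃ T : ℕ → L, (∀ r ∈ D.posRoots, chi D A c r ≠ 1 → T r = 0) ∧
      z * u * z⁻¹ = pw h.good D.posRoots T := by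
  classical
  have g := h.good
  have : Finite (GL D.Idx L) := finite_GL
  have hp := (Fact.out : p.Prime)
  set s := tor D A c
  let R : ℕ → Bool := fun r => decide (chi D A c r = 1)
  have hR : ∀ r, chi D A c r = 1 ↔ R r = true := fun r => (decide_eq_true_iff).symm
  set C := D.group L ⊓ Subgroup.centralizer ({s} : Set (GL D.Idx L))
  have hmem : ∀ y, y ∈ C ↔ y ∈ D.group L ∧ y * s = s * y := fun y => by
    rw [Subgroup.mem_inf, Subgroup.mem_centralizer_singleton_iff]
  set UC := D.posUnipotent L ⊓ Subgroup.centralizer ({s} : Set (GL D.Idx L))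
  have hUC : UC ≤ C := inf_le_inf_right _ (posUnipotent_le_group g)
  set S := D.posRoots.toFinset.filter fun r => R r = true
  have hU : Nat.card UC = Fintype.card L ^ S.card := by
    have hall : D.posRoots.toFinset.filter D.IsPosRoot = D.posRoots.toFinset :=
      Finset.filter_true_of_mem fun r hr => posRoots_mem.1 (List.mem_toFinset.1 hr)
    have hUpos : UP L g D.IsPosRoot = D.posUnipotent L := by rw [posUnipotent_eq g]; rfl
    have := OddInvol.card_fixed h (Q := D.IsPosRoot) (fun r hr => hr) (by
      rw [hUpos, card_posUnipotent h, hall,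
        List.toFinset_card_of_nodup (show D.posRoots.Nodup from List.Nodup.filter _ List.nodup_range),
        length_posRoots g]) c hR
    rw [hall] at this
    rw [← this]
    refine Nat.card_congr (Equiv.subtypeEquivRight fun y => ?_)
    rw [Subgroup.mem_inf, Subgroup.mem_centralizer_singleton_iff, hUpos, mul_inv_eq_iff_eq_mul]
    exact and_congr_right fun _ => eq_comm
  set St := Finset.univ.filter fun w : Weyl h.good =>
    ∀ r : Fin D.nroots, chi D A c (w.1 r).val = chi D A c r.val
  set inv := fun w : Weyl h.good => (S.filter fun r => ¬ D.IsPosRoot (OddInvol.rmap w r)).card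
  have hC : Nat.card C = Nat.card (UC.subgroupOf C) *
      (Nat.card (D.diagonalSubgroup L) * ∑ w ∈ St, Fintype.card L ^ inv w) := by
    rw [Nat.card_congr (Subgroup.subgroupOfEquivOfLe hUC).toEquiv, hU, ← mul_assoc,
      ← OddInvol.card_cent_tor h c hR (St := St) (fun w => by simp [St])]
    exact Nat.card_congr (Equiv.subtypeEquivRight hmem)
  have hcastL : (Fintype.card L : ZMod p) = 0 := by
    obtain ⟨m, -, hm⟩ := FiniteField.card L p
    rw [hm, Nat.cast_pow, ZMod.natCast_self, zero_pow m.pos.ne']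
  have h1 : ¬ p ∣ Nat.card (D.diagonalSubgroup L) := by
    intro hd
    have hT : Nat.card (D.diagonalSubgroup L) ∣ Nat.card (Fin D.rank → Lˣ) := by
      rw [diagonalSubgroup_eq g]
      exact Subgroup.card_range_dvd _
    have h3 := hd.trans hT
    rw [Nat.card_pi, Finset.prod_const, Nat.card_eq_fintype_card, Fintype.card_units] at h3
    have := (ZMod.natCast_eq_zero_iff _ p).2 (hp.dvd_of_dvd_pow h3)
    rw [Nat.cast_sub Fintype.card_pos, hcastL, Nat.cast_one, zero_sub, neg_eq_zero] at this
    exact one_ne_zero this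
  have h2 : ¬ p ∣ ∑ w ∈ St, Fintype.card L ^ inv w := by
    rw [← ZMod.natCast_eq_zero_iff, Nat.cast_sum]
    simp only [Nat.cast_pow, hcastL]
    have h1St : (1 : Weyl h.good) ∈ St := by simp [St]
    have hinv1 : inv 1 = 0 := by
      simp only [inv, Finset.card_eq_zero, Finset.filter_eq_empty_iff, not_not]
      intro r hr
      simp only [S, Finset.mem_filter, List.mem_toFinset, posRoots_mem] at hr
      rw [OddInvol.rmap, dif_pos hr.1.1]
      exact hr.1
    rw [Finset.sum_eq_single_of_mem 1 h1St, hinv1, pow_zero]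
    · exact one_ne_zero
    · intro w hw hne
      refine zero_pow fun h0 => hne (hH w (Finset.mem_filter.1 hw).2 fun r hr hr1 => ?_)
      simp only [inv, Finset.card_eq_zero, Finset.filter_eq_empty_iff, not_not] at h0
      have := h0 (show r.val ∈ S from Finset.mem_filter.2
        ⟨List.mem_toFinset.2 (posRoots_mem.2 hr), (hR _).1 hr1⟩)
      rwa [OddInvol.rmap, dif_pos r.isLt] at this
  obtain ⟨z, hz⟩ := pconj_into (UC.subgroupOf C) hC (p := p) (k := k)
    (fun hd => (hp.dvd_mul.1 hd).elim h1 h2) (x := ⟨u, (hmem u).2 ⟨hu, hc⟩⟩) (Subtype.ext huk)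
  have hz' : (z : GL D.Idx L) * u * (z : GL D.Idx L)⁻¹ ∈ UC := Subgroup.mem_subgroupOf.1 hz
  rw [Subgroup.mem_inf, Subgroup.mem_centralizer_singleton_iff] at hz'
  obtain ⟨hzU, hzc⟩ := hz'
  rw [← UL_posRoots g] at hzU
  obtain ⟨T, hT⟩ := exists_pw h upList_posRoots hzU
  refine ⟨z, T, fun r hr hr1 => ?_, hT⟩
  rw [hT] at hzc
  have hfix : tor D A c * pw g D.posRoots T * (tor D A c)⁻¹ = pw g D.posRoots T := by
    rw [← hzc, mul_inv_cancel_right]
  rw [OddInvol.conj_pw g c (fun r hr => (posRoots_mem.1 hr).1)] at hfix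
  have := pw_inj h upList_posRoots hfix r hr
  by_contra h0
  exact hr1 (Units.ext (mul_right_cancel₀ h0 (this.trans (one_mul _).symm)))

end CfsgLib.Chev.G2Spec
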