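/-
The group law of the positive unipotent group of type G2 in every characteristic, and its powers.
-/
import Cfsg.Agent.Lib.Chev.Twist.Class
import Cfsg.Agent.Lib.Chev.Types

set_option autoImplicit false
set_option maxRecDepth 100000
set_option linter.unusedSimpArgs false

namespace CfsgLib.Chev.G2Spec

open Cfsg.Lie Matrix CfsgLib.Chev

variable {K : Type*} [Field K]

/-- root element -/
noncomputable abbrev xx (r : ℕ) (t : K) : GL chevG2.Idx K := xG stdG2.good r t

lemma swap67 (t u : K) :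
    xx 6 u * xx 7 t = xx 7 t * (xx 6 u * (xx 8 (t * u) * (xx 9 (t ^ 2 * u) *
      (xx 10 (-(t ^ 3 * u)) * xx 11 (-(t ^ 3 * u ^ 2)))))) := by
  have := xG_swap stdG2 (r := 7) (s := 6) (by decide +kernel) (by decide +kernel) (by decide)
    (by decide +kernel) t u
  rw [show auxG2.terms 7 6 = [(8, -1, 1, 1), (9, 1, 2, 1), (10, 1, 3, 1), (11, 1, 3, 2)] by
    decide +kernel] at this
  simp only [List.map_cons, List.map_nil, List.prod_cons, List.prod_nil, mul_one, pow_one,
    Int.cast_neg, Int.cast_one, one_mul, neg_mul, mul_neg, neg_neg, neg_sq] at this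
  rw [xx, xx, this, mul_assoc]
  congr 5 <;> ring

lemma swap87 (t u : K) : xx 8 u * xx 7 t =
    xx 7 t * (xx 8 u * (xx 9 (2 * t * u) * (xx 10 (-(3 * t ^ 2 * u)) * xx 11 (-(3 * t * u ^ 2))))) := by
  have := xG_swap stdG2 (r := 7) (s := 8) (by decide +kernel) (by decide +kernel) (by decide)
    (by decide +kernel) t u
  rw [show auxG2.terms 7 8 = [(9, -2, 1, 1), (10, -3, 2, 1), (11, 3, 1, 2)] by decide +kernel] at this
  simp only [List.map_cons, List.map_nil, List.prod_cons, List.prod_nil, mul_one, pow_one,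
    Int.cast_neg, Int.cast_ofNat] at this
  rw [xx, xx, this, mul_assoc, show (-2 : K) * -t * u = 2 * t * u by ring,
    show (-3 : K) * (-t) ^ 2 * u = -(3 * t ^ 2 * u) by ring,
    show (3 : K) * -t * u ^ 2 = -(3 * t * u ^ 2) by ring]

lemma swap97 (t u : K) : xx 9 u * xx 7 t = xx 7 t * (xx 9 u * xx 10 (-(3 * t * u))) := by
  have := xG_swap stdG2 (r := 7) (s := 9) (by decide +kernel) (by decide +kernel) (by decide)
    (by decide +kernel) t u
  rw [show auxG2.terms 7 9 = [(10, 3, 1, 1)] by decide +kernel] at this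
  simp only [List.map_cons, List.map_nil, List.prod_cons, List.prod_nil, mul_one, pow_one,
    Int.cast_ofNat] at this
  rw [xx, xx, this, mul_assoc]
  congr 3
  ring

lemma swap98 (t u : K) : xx 9 u * xx 8 t = xx 8 t * (xx 9 u * xx 11 (-(3 * t * u))) := by
  have := xG_swap stdG2 (r := 8) (s := 9) (by decide +kernel) (by decide +kernel) (by decide)
    (by decide +kernel) t u
  rw [show auxG2.terms 8 9 = [(11, 3, 1, 1)] by decide +kernel] at this
  simp only [List.map_cons, List.map_nil, List.prod_cons, List.prod_nil, mul_one, pow_one,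
    Int.cast_ofNat] at this
  rw [xx, xx, this, mul_assoc]
  congr 3
  ring

lemma swap106 (t u : K) : xx 10 u * xx 6 t = xx 6 t * (xx 10 u * xx 11 (-(t * u))) := by
  have := xG_swap stdG2 (r := 6) (s := 10) (by decide +kernel) (by decide +kernel) (by decide)
    (by decide +kernel) t u
  rw [show auxG2.terms 6 10 = [(11, 1, 1, 1)] by decide +kernel] at this
  simp only [List.map_cons, List.map_nil, List.prod_cons, List.prod_nil, mul_one, pow_one,
    Int.cast_one, one_mul, neg_mul] at this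
  rw [xx, xx, this, mul_assoc]

lemma m67 (t u : K) (z : GL chevG2.Idx K) :
    xx 6 u * (xx 7 t * z) = xx 7 t * (xx 6 u * (xx 8 (t * u) * (xx 9 (t ^ 2 * u) *
      (xx 10 (-(t ^ 3 * u)) * (xx 11 (-(t ^ 3 * u ^ 2)) * z))))) := by
  rw [← mul_assoc, swap67]; simp only [mul_assoc]

lemma m87 (t u : K) (z : GL chevG2.Idx K) :
    xx 8 u * (xx 7 t * z) = xx 7 t * (xx 8 u * (xx 9 (2 * t * u) * (xx 10 (-(3 * t ^ 2 * u)) *
      (xx 11 (-(3 * t * u ^ 2)) * z)))) := by
  rw [← mul_assoc, swap87]; simp only [mul_assoc]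

lemma m97 (t u : K) (z : GL chevG2.Idx K) :
    xx 9 u * (xx 7 t * z) = xx 7 t * (xx 9 u * (xx 10 (-(3 * t * u)) * z)) := by
  rw [← mul_assoc, swap97]; simp only [mul_assoc]

lemma m98 (t u : K) (z : GL chevG2.Idx K) :
    xx 9 u * (xx 8 t * z) = xx 8 t * (xx 9 u * (xx 11 (-(3 * t * u)) * z)) := by
  rw [← mul_assoc, swap98]; simp only [mul_assoc]

lemma m106 (t u : K) (z : GL chevG2.Idx K) :
    xx 10 u * (xx 6 t * z) = xx 6 t * (xx 10 u * (xx 11 (-(t * u)) * z)) := by
  rw [← mul_assoc, swap106]; simp only [mul_assoc]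

lemma commP {r s : ℕ} (h : commPair chevG2 auxG2 r s = true) (t u : K) (z : GL chevG2.Idx K) :
    xx r t * (xx s u * z) = xx s u * (xx r t * z) :=
  (commute_xG stdG2 h t u).left_comm z

lemma m107 (t u : K) (z : GL chevG2.Idx K) : xx 10 u * (xx 7 t * z) = xx 7 t * (xx 10 u * z) :=
  commP (by decide +kernel) u t z

lemma m117 (t u : K) (z : GL chevG2.Idx K) : xx 11 u * (xx 7 t * z) = xx 7 t * (xx 11 u * z) :=
  commP (by decide +kernel) u t z

lemma m86 (t u : K) (z : GL chevG2.Idx K) : xx 8 u * (xx 6 t * z) = xx 6 t * (xx 8 u * z) :=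
  commP (by decide +kernel) u t z

lemma m96 (t u : K) (z : GL chevG2.Idx K) : xx 9 u * (xx 6 t * z) = xx 6 t * (xx 9 u * z) :=
  commP (by decide +kernel) u t z

lemma m116 (t u : K) (z : GL chevG2.Idx K) : xx 11 u * (xx 6 t * z) = xx 6 t * (xx 11 u * z) :=
  commP (by decide +kernel) u t z

lemma m108 (t u : K) (z : GL chevG2.Idx K) : xx 10 u * (xx 8 t * z) = xx 8 t * (xx 10 u * z) :=
  commP (by decide +kernel) u t z

lemma m118 (t u : K) (z : GL chevG2.Idx K) : xx 11 u * (xx 8 t * z) = xx 8 t * (xx 11 u * z) :=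
  commP (by decide +kernel) u t z

lemma m109 (t u : K) (z : GL chevG2.Idx K) : xx 10 u * (xx 9 t * z) = xx 9 t * (xx 10 u * z) :=
  commP (by decide +kernel) u t z

lemma m119 (t u : K) (z : GL chevG2.Idx K) : xx 11 u * (xx 9 t * z) = xx 9 t * (xx 11 u * z) :=
  commP (by decide +kernel) u t z

lemma m1110 (t u : K) (z : GL chevG2.Idx K) : xx 11 u * (xx 10 t * z) = xx 10 t * (xx 11 u * z) :=
  commP (by decide +kernel) u t z

lemma madd (r : ℕ) (t u : K) (z : GL chevG2.Idx K) : xx r t * (xx r u * z) = xx r (t + u) * z := by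
  rw [← mul_assoc, xx, xG_add]

/-- the general element, coordinates `a, b, a+b, 2a+b, 3a+b, 3a+2b` -/
noncomputable def W (a b c d f g : K) : GL chevG2.Idx K :=
  xx 7 a * xx 6 b * xx 8 c * xx 9 d * xx 10 f * xx 11 g

lemma W_mul (a b c d f g a' b' c' d' f' g' : K) :
    W a b c d f g * W a' b' c' d' f' g' =
      W (a + a') (b + b') (c + c' + a' * b) (d + d' + 2 * a' * c + a' ^ 2 * b)
        (f + f' - 3 * a' * d - 3 * a' ^ 2 * c - a' ^ 3 * b)
        (g + g' - b' * f - 3 * c' * d + 3 * a' * b' * d - 6 * a' * c * c' - 3 * a' * c ^ 2 -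
          3 * a' ^ 2 * b * c - 3 * a' ^ 2 * b * c' + 3 * a' ^ 2 * b' * c + a' ^ 3 * b * b' -
          a' ^ 3 * b ^ 2) := by
  rw [← mul_one (W a b c d f g * W a' b' c' d' f' g'),
    ← mul_one (W (a + a') (b + b') _ _ _ _)]
  simp only [W, mul_assoc, m67, m87, m97, m98, m106, m107, m117, m86, m96, m116, m108, m118, m109,
    m119, m1110, madd]
  ring_nf

lemma W_zero : W (0 : K) 0 0 0 0 0 = 1 := by simp [W, xx, xG_zero]

/-- binomial coefficient in the field -/
abbrev bc (n k : ℕ) : K := ((n.choose k : ℕ) : K)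

lemma bc_succ (n k : ℕ) : (bc (n + 1) (k + 1) : K) = bc n k + bc n (k + 1) := by
  simp only [bc, Nat.choose_succ_succ, Nat.cast_add]

/-- products of binomial coefficients -/
lemma choose_mul : ∀ n : ℕ, n.choose 1 * n.choose 1 = 2 * n.choose 2 + n.choose 1 ∧
    n.choose 1 * n.choose 2 = 3 * n.choose 3 + 2 * n.choose 2 ∧
    n.choose 2 * n.choose 2 = 6 * n.choose 4 + 6 * n.choose 3 + n.choose 2
  | 0 => by decide
  | m + 1 => by
    obtain ⟨h1, h2, h3⟩ := choose_mul m
    rw [Nat.choose_succ_succ m 3, Nat.choose_succ_succ m 2, Nat.choose_succ_succ m 1,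
      Nat.choose_succ_succ m 0, Nat.choose_zero_right]
    refine ⟨?_, ?_, ?_⟩ <;> nlinarith [h1, h2, h3]

lemma bc_mul (n : ℕ) : (bc n 1 : K) * bc n 1 = 2 * bc n 2 + bc n 1 ∧
    (bc n 1 : K) * bc n 2 = 3 * bc n 3 + 2 * bc n 2 ∧
    (bc n 2 : K) * bc n 2 = 6 * bc n 4 + 6 * bc n 3 + bc n 2 := by
  obtain ⟨h1, h2, h3⟩ := choose_mul n
  exact ⟨by exact_mod_cast congrArg (Nat.cast (R := K)) h1,
    by exact_mod_cast congrArg (Nat.cast (R := K)) h2,
    by exact_mod_cast congrArg (Nat.cast (R := K)) h3⟩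

/-- the powers -/
lemma W_pow (a b c d f g : K) : ∀ n : ℕ, W a b c d f g ^ n =
    W (bc n 1 * a) (bc n 1 * b) (bc n 1 * c + bc n 2 * (a * b))
      (bc n 1 * d + bc n 2 * (2 * a * c + a ^ 2 * b) + bc n 3 * (2 * a ^ 2 * b))
      (bc n 1 * f + bc n 2 * (-3 * a * d - 3 * a ^ 2 * c - a ^ 3 * b) +
        bc n 3 * (-6 * a ^ 2 * c - 6 * a ^ 3 * b) + bc n 4 * (-6 * a ^ 3 * b))
      (bc n 1 * g + bc n 2 * (-b * f - 3 * c * d + 3 * a * b * d - 9 * a * c ^ 2 - 3 * a ^ 2 * b * c) +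
        bc n 3 * (3 * a * b * d - 12 * a * c ^ 2 - 18 * a ^ 2 * b * c - 4 * a ^ 3 * b ^ 2) +
        bc n 4 * (-18 * a ^ 2 * b * c - 15 * a ^ 3 * b ^ 2) + bc n 5 * (-12 * a ^ 3 * b ^ 2))
  | 0 => by simp [bc, W_zero]
  | n + 1 => by
    rw [pow_succ, W_pow a b c d f g n, W_mul]
    have e0 : (bc n 0 : K) = 1 := by simp [bc]
    simp only [bc_succ, e0, show (bc (n + 1) 1 : K) = 1 + bc n 1 by rw [bc_succ, e0]]
    congr 1
    all_goals first
      | ring1
      | linear_combination (-(a ^ 3 * b ^ 2) - 3 * a * c ^ 2 - 3 * a ^ 2 * b * c) * (bc_mul (K := K) n).1 +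
          (-6 * a ^ 2 * b * c - 3 * a ^ 3 * b ^ 2) * (bc_mul (K := K) n).2.1 -
          3 * a ^ 3 * b ^ 2 * (bc_mul (K := K) n).2.2

/-- coordinates in increasing order -/
def coord (a b c d f g : K) (r : ℕ) : K :=
  if r = 6 then b else if r = 7 then a else if r = 8 then c - a * b
  else if r = 9 then d - a ^ 2 * b else if r = 10 then f + a ^ 3 * b
  else g + 3 * a ^ 2 * b * (c - a * b) + a ^ 3 * b ^ 2

lemma pw_eq_W (b a c d f g : K) :
    xx 6 b * xx 7 a * xx 8 c * xx 9 d * xx 10 f * xx 11 g =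
      W a b (c + a * b) (d + a ^ 2 * b) (f - a ^ 3 * b) (g - 3 * a ^ 2 * b * c - a ^ 3 * b ^ 2) := by
  rw [← mul_one (_ * xx 11 g), ← mul_one (W a b _ _ _ _)]
  simp only [W, mul_assoc, m67, m87, m97, m98, m106, m107, m117, m86, m96, m116, m108, m118, m109,
    m119, m1110, madd]
  ring_nf

lemma W_eq_pw (a b c d f g : K) :
    W a b c d f g = pw stdG2.good [6, 7, 8, 9, 10, 11] (coord a b c d f g) := by
  have := pw_eq_W b a (c - a * b) (d - a ^ 2 * b) (f + a ^ 3 * b)
    (g + 3 * a ^ 2 * b * (c - a * b) + a ^ 3 * b ^ 2)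
  ring_nf at this ⊢
  rw [← this]
  simp [pw, coord, xx, mul_assoc]
  ring_nf

lemma W_eq_one {a b c d f g : K} (e : W a b c d f g = 1) :
    a = 0 ∧ b = 0 ∧ c = 0 ∧ d = 0 ∧ f = 0 ∧ g = 0 := by
  rw [← W_zero, W_eq_pw, W_eq_pw] at e
  have h := pw_filter_inj stdG2 (by decide +kernel) e
  have h1 : b = 0 := by simpa [coord] using h 6 (by simp)
  have h2 : a = 0 := by simpa [coord] using h 7 (by simp)
  subst h1 h2
  exact ⟨rfl, rfl, by simpa [coord] using h 8 (by simp), by simpa [coord] using h 9 (by simp),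
    by simpa [coord] using h 10 (by simp), by simpa [coord] using h 11 (by simp)⟩

lemma exists_W {u : GL chevG2.Idx K} (hu : u ∈ chevG2.posUnipotent K) :
    ∃ a b c d f g : K, u = W a b c d f g := by
  rw [← UL_posRoots stdG2.good] at hu
  obtain ⟨T, rfl⟩ := exists_pw stdG2 upList_posRoots hu
  refine ⟨_, _, _, _, _, _, Eq.trans ?_ (pw_eq_W (T 6) (T 7) (T 8) (T 9) (T 10) (T 11))⟩
  rw [show chevG2.posRoots = [6, 7, 8, 9, 10, 11] by decide +kernel]
  simp [pw, xx, mul_assoc]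

/-- powers with vanishing binomial coefficients kill the group -/
lemma pow_eq_one_of_choose {n : ℕ} (h : ∀ k, 1 ≤ k → k ≤ 5 → ((n.choose k : ℕ) : K) = 0)
    {u : GL chevG2.Idx K} (hu : u ∈ chevG2.posUnipotent K) : u ^ n = 1 := by
  obtain ⟨a, b, c, d, f, g, rfl⟩ := exists_W hu
  rw [W_pow]
  simp only [bc, h 1 le_rfl (by norm_num), h 2 (by norm_num) (by norm_num), h 3 (by norm_num) (by norm_num),
    h 4 (by norm_num) (by norm_num), h 5 (by norm_num) le_rfl, zero_mul, add_zero, W_zero]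

end CfsgLib.Chev.G2Spec
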