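/-
The Weyl group of type G2 on parameter vectors, as integer tables.
-/
import Cfsg.Agent.Lib.Chev.SemiToral.Main
import Cfsg.Agent.Lib.Chev.Data.WeylCheckG2
import Cfsg.Agent.Lib.Chev.Data.WeylG2
import Cfsg.Agent.Lib.Chev.WeylNF
import Cfsg.Agent.Lib.Chev.OrderTypes
import Cfsg.Agent.Lib.KnownB.ChevField

set_option autoImplicit false
set_option maxRecDepth 100000

namespace CfsgLib.Chev.G2Spec

open Cfsg.Lie CfsgLib.Chev CfsgLib.Chev.SylowTori CfsgLib.Chev.SemiToral Matrix

/-- the row of a root -/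
noncomputable def row (r : ℕ) : ℤ × ℤ := (auxG2.a r 0, auxG2.a r 1)

/-- two by two integer matrices by rows -/
abbrev M2 := (ℤ × ℤ) × (ℤ × ℤ)

/-- the matrix of a word -/
noncomputable def mat (l : List ℕ) : M2 :=
  (row (wf auxG2 l (chevG2.simple 0)), row (wf auxG2 l (chevG2.simple 1)))

/-- `b * M` -/
def step (M : M2) (b : ℤ × ℤ) : ℤ × ℤ :=
  (b.1 * M.1.1 + b.2 * M.2.1, b.1 * M.1.2 + b.2 * M.2.2)

/-- determinant of two rows -/
def det2 (b c : ℤ × ℤ) : ℤ := b.1 * c.2 - b.2 * c.1

/-- the trace and the determinant -/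
def trd (M : M2) : ℤ × ℤ := (M.1.1 + M.2.2, det2 M.1 M.2)

/-- the normal forms -/
noncomputable abbrev WL : List (List ℕ) := NF weylG2 chevG2.rank

/-- small integers -/
def sm : List ℤ := [0, 1, -1, 2, -2, 3, -3, 4, -4]

/-- the type of an element -/
noncomputable def kindOK (l : List ℕ) : Bool :=
  let M := mat l
  decide (M = ((1, 0), (0, 1)) ∨ M = ((-1, 0), (0, -1)) ∨
    trd M ∈ ([(0, -1), (-1, 1), (1, 1)] : List (ℤ × ℤ))) && decide (det2 M.1 M.2 = 1 ∨ det2 M.1 M.2 = -1)

/-- a root fixed up to sign has a unimodular partner moved by a sign -/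
noncomputable def partnerOK (l : List ℕ) : Bool :=
  let M := mat l
  (List.range chevG2.nroots).all fun r =>
    !(step M (row r) == row r || step M (row r) == (-(row r).1, -(row r).2)) ||
      (List.range chevG2.nroots).any fun s =>
        decide (det2 (row r) (row s) = 1 ∨ det2 (row r) (row s) = -1) &&
          sm.any fun k => sm.any fun d => (d == 1 || d == -1) &&
            step M (row s) == (d * (row s).1 + k * (row r).1, d * (row s).2 + k * (row r).2)

/-- a combination of the rows of `M - 1` -/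
def comb (M : M2) (x y : ℤ) : ℤ × ℤ :=
  (x * (M.1.1 - 1) + y * M.2.1, x * M.1.2 + y * (M.2.2 - 1))

/-- a positive root that is negative after the element -/
noncomputable def flips (l : List ℕ) (r : ℕ) : Bool :=
  decide (0 ≤ (row r).1 ∧ 0 ≤ (row r).2 ∧
    ((step (mat l) (row r)).1 < 0 ∨ (step (mat l) (row r)).2 < 0))

/-- a nontrivial element that fixes a vector flips a positive root that kills it -/
noncomputable def fixOK (l : List ℕ) : Bool :=
  let M := mat l
  M == ((1, 0), (0, 1)) ||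
    ((List.range chevG2.nroots).any fun r => flips l r &&
      sm.any fun x => sm.any fun y => comb M x y == row r) ||
    ([1, 2, 3] : List ℕ).any fun e =>
      (sm.any fun x => sm.any fun y => comb M x y == ((e : ℤ), 0)) &&
      (sm.any fun x => sm.any fun y => comb M x y == (0, (e : ℤ))) &&
      (List.range e).all fun i => (List.range e).all fun j =>
        !(decide (((M.1.1 - 1) * (i : ℤ) + M.1.2 * (j : ℤ)) % (e : ℤ) = 0) &&
            decide ((M.2.1 * (i : ℤ) + (M.2.2 - 1) * (j : ℤ)) % (e : ℤ) = 0)) ||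
          (List.range chevG2.nroots).any fun r => flips l r &&
            decide (((row r).1 * (i : ℤ) + (row r).2 * (j : ℤ)) % (e : ℤ) = 0)

theorem kind_chk : WL.all kindOK = true := by decide +kernel
theorem partner_chk : WL.all partnerOK = true := by decide +kernel
theorem fix_chk : WL.all fixOK = true := by decide +kernel
theorem sum_chk : (WL.map fun l => (trd (mat l)).1).sum = 0 ∧ (WL.map fun l => (trd (mat l)).2).sum = 0 ∧
    WL.length = 12 := by decide +kernel
theorem pair_chk : ∀ r < chevG2.nroots, ∀ s < chevG2.nroots,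
    (det2 (row r) (row s) = 0 → row s = row r ∨ row s = (-(row r).1, -(row r).2)) ∧
      (det2 (row r) (row s)).natAbs ≤ 3 := by decide +kernel

/-! ### translation -/

variable {R : Type*} [CommRing R]

/-- the pairing -/
def phi (v : Fin chevG2.rank → R) (b : ℤ × ℤ) : R :=
  (b.1 : R) * v (0 : Fin 2) + (b.2 : R) * v (1 : Fin 2)

theorem lin_row (s : ℕ) (v : Fin chevG2.rank → R) : lin chevG2 auxG2 s v = phi v (row s) := by
  rw [lin_apply]
  show ∑ j : Fin 2, (auxG2.a s j : R) * v j = _
  rw [Fin.sum_univ_two]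
  rfl

theorem row_wf {l : List ℕ} (hl : Letters chevG2 l) {s : ℕ} (hs : s < chevG2.nroots) :
    row (wf auxG2 l s) = step (mat l) (row s) := by
  have h : ∀ j, j < chevG2.rank → auxG2.a (wf auxG2 l s) j =
      auxG2.a s 0 * auxG2.a (wf auxG2 l (chevG2.simple 0)) j +
      auxG2.a s 1 * auxG2.a (wf auxG2 l (chevG2.simple 1)) j := fun j hj => by
    rw [a_wf stdG2.good hl hs hj]
    show (∑ k : Fin 2, _) = _
    rw [Fin.sum_univ_two]
    rfl
  simp only [row, mat, step]
  rw [h 0 (by decide), h 1 (by decide)]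

theorem phi_step {l : List ℕ} {c : R} {v : Fin chevG2.rank → R}
    (hv : v ∈ eigen R chevG2 auxG2 l c) (b : ℤ × ℤ) :
    phi v (step (mat l) b) = c * phi v b := by
  have h : ∀ i : Fin chevG2.rank, phi v (row (wf auxG2 l (chevG2.simple i))) = c * v i := fun i => by
    rw [← lin_row]
    exact congrFun (mem_eigen.1 hv) i
  have h0 : phi v (row (wf auxG2 l (chevG2.simple 0))) = c * v (0 : Fin 2) := h (0 : Fin 2)
  have h1 : phi v (row (wf auxG2 l (chevG2.simple 1))) = c * v (1 : Fin 2) := h (1 : Fin 2)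
  obtain ⟨x, y⟩ := b
  simp only [row, phi] at h0 h1
  simp only [mat, row, step, phi]
  push_cast
  linear_combination (x : R) * h0 + (y : R) * h1

theorem mat_congr {l l' : List ℕ} (h : SameOn chevG2 (wf auxG2 l) (wf auxG2 l')) : mat l = mat l' := by
  simp only [mat, h _ (stdG2.good.simple_lt 0 (by decide)), h _ (stdG2.good.simple_lt 1 (by decide))]

theorem exists_WL {l : List ℕ} (hl : Letters chevG2 l) :
    ∃ l' ∈ WL, mat l = mat l' ∧ Letters chevG2 l' := by
  obtain ⟨l', hl', hs⟩ := exists_NF stdG2.good weylOKG2 hl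
  exact ⟨l', hl', mat_congr hs, NF_letters weylOKG2 le_rfl hl'⟩

theorem det_kills (v : Fin chevG2.rank → R) {b c : ℤ × ℤ} (hb : phi v b = 0) (hc : phi v c = 0)
    (i : Fin chevG2.rank) : (det2 b c : R) * v i = 0 := by
  simp only [phi] at hb hc
  simp only [det2]
  push_cast
  obtain ⟨i, hi⟩ := i
  have : i = 0 ∨ i = 1 := by
    have : i < 2 := hi
    omega
  rcases this with rfl | rfl
  · show _ * v (0 : Fin 2) = _
    linear_combination (c.2 : R) * hb - (b.2 : R) * hc
  · show _ * v (1 : Fin 2) = _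
    linear_combination -(c.1 : R) * hb + (b.1 : R) * hc

theorem rows_of_mat_one {w : Weyl stdG2.good} (h : mat (wd stdG2.good w) = ((1, 0), (0, 1))) : w = 1 := by
  have g := stdG2.good
  refine Subtype.ext (Equiv.ext fun r => Fin.ext ?_)
  have e : row (wf auxG2 (wd stdG2.good w) r) = row r := by
    rw [row_wf (wd_letters stdG2.good w) r.isLt, h]
    simp [step]
  rw [wd_apply]
  simp only [row, Prod.mk.injEq] at e
  refine g.a_inj _ (wf_lt g (wd_letters stdG2.good w) r.isLt) _ r.isLt fun j hj => ?_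
  have : j = 0 ∨ j = 1 := by
    have : j < 2 := hj
    omega
  rcases this with rfl | rfl
  · exact e.1
  · exact e.2

/-- sums over the Weyl group are sums over the table -/
theorem sum_weyl (f : M2 → ℤ) :
    ∑ w : Weyl stdG2.good, f (mat (wd stdG2.good w)) = (WL.map fun l => f (mat l)).sum := by
  classical
  have g := stdG2.good
  rw [← List.sum_toFinset _ (NF_nodup g weylOKG2 le_rfl)]
  let φ : ∀ l ∈ WL.toFinset, Weyl stdG2.good := fun l hl =>
    (exists_wd stdG2.good (NF_letters weylOKG2 le_rfl (List.mem_toFinset.1 hl))).choose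
  have hφ : ∀ l hl, SameOn chevG2 (wf auxG2 (wd stdG2.good (φ l hl))) (wf auxG2 l) := fun l hl =>
    (exists_wd stdG2.good (NF_letters weylOKG2 le_rfl (List.mem_toFinset.1 hl))).choose_spec
  refine (Finset.sum_bij φ (fun _ _ => Finset.mem_univ _) ?_ ?_ ?_).symm
  · intro a ha b hb e
    refine NF_inj g weylOKG2 le_rfl _ (List.mem_toFinset.1 ha) _ (List.mem_toFinset.1 hb) fun r hr => ?_
    rw [← hφ a ha r hr, e, hφ b hb r hr]
  · intro x _
    obtain ⟨l, hl, hs⟩ := exists_NF g weylOKG2 (wd_letters stdG2.good x)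
    refine ⟨l, List.mem_toFinset.2 hl, Subtype.ext (Equiv.ext fun r => Fin.ext ?_)⟩
    rw [wd_apply, wd_apply, hφ l (List.mem_toFinset.2 hl) r r.isLt, hs r r.isLt]
  · intro a ha
    rw [mat_congr (hφ a ha)]

theorem Bw_det (q : ℕ) (w : Weyl stdG2.good) :
    (Bw stdG2.good q w).det =
      (q : ℤ) ^ 2 - (trd (mat (wd stdG2.good w))).1 * q + (trd (mat (wd stdG2.good w))).2 := by
  have key : ∀ B : Matrix (Fin 2) (Fin 2) ℤ,
      B.det = B 0 0 * B 1 1 - B 0 1 * B 1 0 := Matrix.det_fin_two
  refine (key (Bw stdG2.good q w)).trans ?_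
  have he : ∀ i j : Fin chevG2.rank, Bw stdG2.good q w i j =
      (if i = j then (q : ℤ) else 0) - auxG2.a (wf auxG2 (wd stdG2.good w) (chevG2.simple i)) j := by
    intro i j
    simp only [Bw, Mw, Matrix.sub_apply, Matrix.smul_apply, Matrix.of_apply, Matrix.one_apply, smul_eq_mul,
      mul_ite, mul_one, mul_zero]
  have e00 : Bw stdG2.good q w (0 : Fin 2) (0 : Fin 2) = (q : ℤ) - (mat (wd stdG2.good w)).1.1 :=
    (he (0 : Fin 2) (0 : Fin 2)).trans (congrArg (· - _) (if_pos rfl))
  have e11 : Bw stdG2.good q w (1 : Fin 2) (1 : Fin 2) = (q : ℤ) - (mat (wd stdG2.good w)).2.2 :=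
    (he (1 : Fin 2) (1 : Fin 2)).trans (congrArg (· - _) (if_pos rfl))
  have e01 : Bw stdG2.good q w (0 : Fin 2) (1 : Fin 2) = 0 - (mat (wd stdG2.good w)).1.2 :=
    (he (0 : Fin 2) (1 : Fin 2)).trans
      (congrArg (· - _) (if_neg fun e => absurd (congrArg Fin.val e) Nat.zero_ne_one))
  have e10 : Bw stdG2.good q w (1 : Fin 2) (0 : Fin 2) = 0 - (mat (wd stdG2.good w)).2.1 :=
    (he (1 : Fin 2) (0 : Fin 2)).trans
      (congrArg (· - _) (if_neg fun e => absurd (congrArg Fin.val e) Nat.one_ne_zero))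
  erw [e00, e11, e01, e10]
  simp only [trd, det2]
  ring

theorem det_dvd_of_smith {D : ChevalleyDatum} {A : Aux}
    {U Ui V Vi : Matrix (Fin D.rank) (Fin D.rank) ℤ} {dd : Fin D.rank → ℕ}
    (hs : smithCheck D A U Ui V Vi dd = true) : (cartanM D A).det.natAbs ∣ ∏ i, dd i := by
  simp only [smithCheck, List.all_eq_true, List.mem_finRange, forall_const, Bool.and_eq_true,
    decide_eq_true_eq] at hs
  have h1 : U * cartanM D A * V = Matrix.diagonal fun i => (dd i : ℤ) := Matrix.ext fun i k => by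
    rw [(hs i k).1.1, Matrix.diagonal_apply]
  have h2 := congrArg (fun M => (Matrix.det M).natAbs) h1
  simp only [Matrix.det_mul, Matrix.det_diagonal, Int.natAbs_mul] at h2
  rw [← Nat.cast_prod, Int.natAbs_natCast] at h2
  rw [← h2]
  exact dvd_mul_of_dvd_left (dvd_mul_left _ _) _

theorem det1 : (cartanM chevG2 auxG2).det.natAbs = 1 :=
  Nat.dvd_one.1 ((det_dvd_of_smith smithG2).trans
    (show (∏ i : Fin 2, (![1, 1] : Fin 2 → ℕ) i) ∣ 1 by decide))

end CfsgLib.Chev.G2Spec
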