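/-
Every element of `G₂(q)` has order dividing one of the expected numbers.
-/
import Cfsg.Agent.Lib.Chev.G2Spec.Law
import Cfsg.Agent.Lib.Chev.G2Spec.Cent
import Cfsg.Agent.Lib.Chev.G2Spec.Tables
import Cfsg.Agent.Lib.Chev.Parabolic
import Cfsg.Agent.Lib.Chev.TorusCard

set_option autoImplicit false
set_option maxRecDepth 100000

namespace CfsgLib.Chev.G2Spec

open Cfsg.Lie Matrix CfsgLib.Chev CfsgLib.Chev.SylowTori CfsgLib.Chev.SemiToral
open CfsgLib.Chev.Lang (dgn)

universe u

theorem pos_row : ∀ r < chevG2.nroots,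
    decide (chevG2.IsPosRoot r) = decide (0 ≤ (row r).1 ∧ 0 ≤ (row r).2) := by decide +kernel

theorem pos_uniq : ∀ r < chevG2.nroots, ∀ s < chevG2.nroots, chevG2.IsPosRoot r → chevG2.IsPosRoot s →
    det2 (row r) (row s) = 0 → r = s := by decide +kernel

theorem row_simple : row (chevG2.simple 0) = (1, 0) ∧ row (chevG2.simple 1) = (0, 1) := by decide +kernel

theorem det2_67 : (det2 (row 6) (row 7)).natAbs = 1 := by decide +kernel

theorem posRoots_eq : chevG2.posRoots = [6, 7, 8, 9, 10, 11] := by decide +kernel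

/-- the matrix of an element of the Weyl group is in the table -/
theorem mat_wd (w : Weyl stdG2.good) : ∃ l ∈ WL, mat (wd stdG2.good w) = mat l :=
  let ⟨l, hl, e, _⟩ := exists_WL (wd_letters stdG2.good w)
  ⟨l, hl, e⟩

/-! ### the numerical hypotheses -/

theorem det_coprime (q : ℕ) (w : Weyl stdG2.good) :
    (Bw stdG2.good q w).det.natAbs.Coprime q := by
  obtain ⟨l, hl, e⟩ := mat_wd w
  have hk := List.all_eq_true.1 kind_chk l hl
  simp only [kindOK, Bool.and_eq_true, decide_eq_true_eq] at hk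
  rw [Bw_det, e]
  set t := (trd (mat l)).1
  rw [show (trd (mat l)).2 = det2 (mat l).1 (mat l).2 from rfl]
  refine Nat.coprime_of_dvd' fun k _ h1 h2 => ?_
  rw [← Int.natCast_dvd] at h1
  have h3 : (k : ℤ) ∣ det2 (mat l).1 (mat l).2 := by
    have h4 : (k : ℤ) ∣ (q : ℤ) ^ 2 - t * q :=
      dvd_sub (dvd_pow (Int.natCast_dvd_natCast.2 h2) two_ne_zero)
        (dvd_mul_of_dvd_right (Int.natCast_dvd_natCast.2 h2) t)
    have := dvd_sub h1 h4
    rwa [show (q : ℤ) ^ 2 - t * q + det2 (mat l).1 (mat l).2 - ((q : ℤ) ^ 2 - t * q) =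
      det2 (mat l).1 (mat l).2 by ring] at this
  rcases hk.2 with h | h <;> rw [h] at h3
  · exact Int.natCast_dvd_natCast.1 (by simpa using h3)
  · exact Int.natCast_dvd_natCast.1 (by simpa using h3)

theorem det_ne {q : ℕ} (hq : 2 ≤ q) (w : Weyl stdG2.good) : (Bw stdG2.good q w).det ≠ 0 := by
  intro e
  have := det_coprime q w
  rw [e, Int.natAbs_zero, Nat.coprime_zero_left] at this
  omega

/-- the modulus of the parameter vectors -/
noncomputable def NN (q : ℕ) : ℕ := ∏ w : Weyl stdG2.good, (Bw stdG2.good q w).det.natAbs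

theorem NN_coprime (q : ℕ) : q.Coprime (NN q) :=
  (Nat.Coprime.prod_left fun w _ => det_coprime q w).symm

theorem NN_pos {q : ℕ} (hq : 2 ≤ q) : 0 < NN q :=
  Finset.prod_pos fun w _ => Int.natAbs_pos.2 (det_ne hq w)

theorem dvd_NN (q : ℕ) (w : Weyl stdG2.good) : (Bw stdG2.good q w).det.natAbs ∣ NN q :=
  Finset.dvd_prod_of_mem _ (Finset.mem_univ w)

theorem det_sum (q : ℕ) :
    ∑ w : Weyl stdG2.good, (Bw stdG2.good q w).det =
      (Nat.card (Weyl stdG2.good) : ℤ) * (q : ℤ) ^ chevG2.rank := by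
  simp only [Bw_det, Finset.sum_add_distrib, Finset.sum_sub_distrib, ← Finset.sum_mul]
  rw [sum_weyl (fun M => (trd M).1), sum_weyl (fun M => (trd M).2), sum_chk.1, sum_chk.2.1,
    Finset.sum_const, Finset.card_univ, Nat.card_eq_fintype_card, nsmul_eq_mul,
    show chevG2.rank = 2 from rfl]
  ring

theorem card_diag {F : Type*} [Field F] [Fintype F] :
    Nat.card (chevG2.diagonalSubgroup F) = (Fintype.card F - 1) ^ chevG2.rank := by
  rw [← card_diagonal stdG2.good smithG2, Finset.prod_eq_one, one_mul]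
  intro i _
  have hone : ∀ j : Fin 2, (![1, 1] : Fin 2 → ℕ) j = 1 := by decide
  exact (congrArg (Nat.gcd · (Fintype.card F - 1)) (hone i)).trans (Nat.gcd_one_left _)

/-! ### eigenvectors -/

variable {N : ℕ}

theorem dvd_of_kills {v : Fin chevG2.rank → ZMod N} {k : ℤ} (h : ∀ i, (k : ZMod N) * v i = 0) :
    addOrderOf v ∣ k.natAbs := by
  refine Int.natCast_dvd.1 (addOrderOf_dvd_iff_zsmul_eq_zero.2 (funext fun i => ?_))
  rw [Pi.smul_apply, zsmul_eq_mul]
  exact h i

theorem dvd_of_two {v : Fin chevG2.rank → ZMod N} {k : ℤ} {b c : ℤ × ℤ}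
    (hu : det2 b c = 1 ∨ det2 b c = -1) (hb : (k : ZMod N) * phi v b = 0)
    (hc : (k : ZMod N) * phi v c = 0) : addOrderOf v ∣ k.natAbs := by
  refine dvd_of_kills fun i => ?_
  have h := det_kills (fun i => (k : ZMod N) * v i) (b := b) (c := c)
    (by simp only [phi] at hb ⊢; linear_combination hb) (by simp only [phi] at hc ⊢; linear_combination hc) i
  rcases hu with e | e <;> rw [e] at h <;> simpa using h

theorem phi_id (v : Fin chevG2.rank → ZMod N) :
    phi v (1, 0) = v (0 : Fin 2) ∧ phi v (0, 1) = v (1 : Fin 2) := by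
  simp [phi]

variable {L : Type*} [Field L]

theorem chi_zp [NeZero N] {ζ : Lˣ} (hζ : IsPrimitiveRoot ζ N) {v : Fin chevG2.rank → ZMod N}
    {c : Fin chevG2.rank → Lˣ} (hc : dgn chevG2 auxG2 (fun i => zp ζ (v i)) = tor chevG2 auxG2 c)
    {r : ℕ} (hr : r < chevG2.nroots) : chi chevG2 auxG2 c r = zp ζ (phi v (row r)) := by
  rw [Lang.tor_eq_dgn stdG2.good] at hc
  have h1 := dgn_inj stdG2.good hc
  rw [← lin_row, ← wt_zp hζ, chi_eq_wt stdG2.good c hr, wt, wt]
  refine Finset.prod_congr rfl fun j hj => ?_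
  rw [Lang.ext, dif_pos (Finset.mem_range.1 hj)]
  exact congrArg (· ^ auxG2.a r j) (congrFun h1 ⟨j, Finset.mem_range.1 hj⟩).symm

theorem killed_iff [NeZero N] {ζ : Lˣ} (hζ : IsPrimitiveRoot ζ N) {v : Fin chevG2.rank → ZMod N}
    {c : Fin chevG2.rank → Lˣ} (hc : dgn chevG2 auxG2 (fun i => zp ζ (v i)) = tor chevG2 auxG2 c)
    {r : ℕ} (hr : r < chevG2.nroots) : chi chevG2 auxG2 c r = 1 ↔ phi v (row r) = 0 := by
  rw [chi_zp hζ hc hr]
  have h0 : zp ζ (0 : ZMod N) = 1 := by simpa using zp_cast hζ (0 : ℤ)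
  exact ⟨fun e => zp_inj hζ (e.trans h0.symm), fun e => by rw [e, h0]⟩

/-- no nontrivial element fixes a toral element and keeps its killed positive roots positive -/
theorem hH [NeZero N] {ζ : Lˣ} (hζ : IsPrimitiveRoot ζ N) {v : Fin chevG2.rank → ZMod N}
    {c : Fin chevG2.rank → Lˣ} (hc : dgn chevG2 auxG2 (fun i => zp ζ (v i)) = tor chevG2 auxG2 c)
    (w : Weyl stdG2.good)
    (hfix : ∀ r : Fin chevG2.nroots, chi chevG2 auxG2 c (w.1 r).val = chi chevG2 auxG2 c r.val)
    (hpos : ∀ r : Fin chevG2.nroots, chevG2.IsPosRoot r.val → chi chevG2 auxG2 c r.val = 1 →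
      chevG2.IsPosRoot (w.1 r).val) : w = 1 := by
  obtain ⟨l, hl, e⟩ := mat_wd w
  have hrow : ∀ r : Fin chevG2.nroots, row (w.1 r).val = step (mat l) (row r) := fun r => by
    rw [wd_apply, row_wf (wd_letters stdG2.good w) r.isLt, e]
  have hphi : ∀ r : Fin chevG2.nroots, phi v (step (mat l) (row r)) = phi v (row r) := fun r => by
    have := hfix r
    rw [chi_zp hζ hc (w.1 r).isLt, chi_zp hζ hc r.isLt, hrow] at this
    exact zp_inj hζ this
  have hM1 : phi v (mat l).1 = v (0 : Fin 2) := by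
    have := hphi ⟨_, stdG2.good.simple_lt 0 (by decide)⟩
    rw [row_simple.1, (phi_id v).1] at this
    simpa [step] using this
  have hM2 : phi v (mat l).2 = v (1 : Fin 2) := by
    have := hphi ⟨_, stdG2.good.simple_lt 1 (by decide)⟩
    rw [row_simple.2, (phi_id v).2] at this
    simpa [step] using this
  have hcomb : ∀ x y, phi v (comb (mat l) x y) = 0 := fun x y => by
    simp only [phi] at hM1 hM2
    simp only [phi, comb]
    push_cast
    linear_combination (x : ZMod N) * hM1 + (y : ZMod N) * hM2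
  have hflip : ∀ r < chevG2.nroots, flips l r = true → phi v (row r) ≠ 0 := by
    intro r hr hf h0
    simp only [flips, decide_eq_true_eq] at hf
    have hp : chevG2.IsPosRoot r := by
      have := pos_row r hr
      simpa [hf.1, hf.2.1] using this
    have h2 := hpos ⟨r, hr⟩ hp ((killed_iff hζ hc hr).2 h0)
    have := pos_row _ (w.1 ⟨r, hr⟩).isLt
    rw [hrow ⟨r, hr⟩, decide_eq_true h2] at this
    have h3 := of_decide_eq_true this.symm
    simp only [] at h3
    rcases hf.2.2 with h4 | h4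
    · exact absurd h3.1 (not_le.2 h4)
    · exact absurd h3.2 (not_le.2 h4)
  have hk := List.all_eq_true.1 fix_chk l hl
  simp only [fixOK, Bool.or_eq_true, Bool.and_eq_true, List.any_eq_true, List.all_eq_true, beq_iff_eq,
    Bool.not_eq_true', List.mem_range, decide_eq_true_eq] at hk
  rcases hk with (h | ⟨r, hr, hf, x, -, y, -, hxy⟩) | ⟨d, hd, ⟨⟨x, -, y, -, hx⟩, x', -, y', -, hy⟩, hall⟩
  · exact rows_of_mat_one (e.trans h)
  · exact absurd (hxy ▸ hcomb x y) (hflip r hr hf)
  · exfalso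
    have hdpos : 0 < d := by
      simp only [List.mem_cons, List.not_mem_nil, or_false] at hd
      omega
    have ex : ∀ z : ZMod N, (d : ZMod N) * z = 0 → ∃ k < d, (z.val : ℤ) * d = (N : ℤ) * k := by
      intro z hz
      have : ((z.val * d : ℕ) : ZMod N) = 0 := by
        rw [Nat.cast_mul, ZMod.natCast_zmod_val, mul_comm, hz]
      obtain ⟨k, hk⟩ := (ZMod.natCast_eq_zero_iff _ _).1 this
      refine ⟨k, ?_, by exact_mod_cast hk⟩
      have h1 : z.val * d < N * d := Nat.mul_lt_mul_of_pos_right (ZMod.val_lt z) hdpos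
      rw [hk] at h1
      exact Nat.lt_of_mul_lt_mul_left h1
    obtain ⟨i, hi, hiN⟩ := ex (v (0 : Fin 2)) (by
      have h := hcomb x y
      rw [hx] at h
      simpa [phi] using h)
    obtain ⟨j, hj, hjN⟩ := ex (v (1 : Fin 2)) (by
      have h := hcomb x' y'
      rw [hy] at h
      simpa [phi] using h)
    have key : ∀ A B : ℤ, (A * (i : ℤ) + B * (j : ℤ)) % (d : ℤ) = 0 ↔
        (A : ZMod N) * v (0 : Fin 2) + (B : ZMod N) * v (1 : Fin 2) = 0 := by
      intro A B
      have hcast : ((A * ((v (0 : Fin 2)).val : ℤ) + B * ((v (1 : Fin 2)).val : ℤ) : ℤ) : ZMod N) =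
          (A : ZMod N) * v (0 : Fin 2) + (B : ZMod N) * v (1 : Fin 2) := by
        push_cast
        simp only [ZMod.natCast_zmod_val]
      have hN : (N : ℤ) ≠ 0 := by exact_mod_cast NeZero.ne N
      have hd' : (d : ℤ) ≠ 0 := by exact_mod_cast hdpos.ne'
      rw [← hcast, ZMod.intCast_zmod_eq_zero_iff_dvd, ← Int.mul_dvd_mul_iff_right hd',
        ← Int.dvd_iff_emod_eq_zero, ← Int.mul_dvd_mul_iff_left hN]
      rw [show (A * ((v (0 : Fin 2)).val : ℤ) + B * ((v (1 : Fin 2)).val : ℤ)) * d =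
        (N : ℤ) * (A * i + B * j) by linear_combination A * hiN + B * hjN]
    rcases hall i hi j hj with h | ⟨r, hr, hf, h⟩
    · have e1 : ((mat l).1.1 - 1) * (i : ℤ) + (mat l).1.2 * (j : ℤ) ≡ 0 [ZMOD d] := by
        refine (key _ _).2 ?_
        simp only [phi] at hM1
        push_cast
        linear_combination hM1
      have e2 : (mat l).2.1 * (i : ℤ) + ((mat l).2.2 - 1) * (j : ℤ) ≡ 0 [ZMOD d] := by
        refine (key _ _).2 ?_
        simp only [phi] at hM2
        push_cast
        linear_combination hM2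
      simp [Int.ModEq] at e1 e2
      simp [e1, e2] at h
    · exact hflip r hr hf ((key _ _).1 h)

/-! ### the orders -/

/-- the expected bounds -/
def Bd (p q n : ℕ) : Prop :=
  n ∣ p * (q + 1) ∨ n ∣ p * (q - 1) ∨ n ∣ q ^ 2 - 1 ∨ n ∣ q ^ 2 + q + 1 ∨ n ∣ q ^ 2 - q + 1 ∨
    ((p = 3 ∨ p = 5) ∧ n ∣ p ^ 2) ∨ (p = 2 ∧ (n ∣ 8 ∨ n ∣ 12))

theorem Bd.of_dvd {p q m n : ℕ} (h : Bd p q n) (hmn : m ∣ n) : Bd p q m := by
  rcases h with h | h | h | h | h | ⟨h1, h⟩ | ⟨h1, h | h⟩
  exacts [.inl (hmn.trans h), .inr <| .inl (hmn.trans h), .inr <| .inr <| .inl (hmn.trans h),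
    .inr <| .inr <| .inr <| .inl (hmn.trans h), .inr <| .inr <| .inr <| .inr <| .inl (hmn.trans h),
    .inr <| .inr <| .inr <| .inr <| .inr <| .inl ⟨h1, hmn.trans h⟩,
    .inr <| .inr <| .inr <| .inr <| .inr <| .inr ⟨h1, .inl (hmn.trans h)⟩,
    .inr <| .inr <| .inr <| .inr <| .inr <| .inr ⟨h1, .inr (hmn.trans h)⟩]

theorem xx_pow (r : ℕ) (t : L) : ∀ n : ℕ, xx r t ^ n = xx r ((n : L) * t)
  | 0 => by simp [xx, xG_zero]
  | n + 1 => by rw [pow_succ, xx_pow r t n, xx, xx, xG_add]; congr 1; push_cast; ring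

theorem xx_pow_p {p : ℕ} [CharP L p] (r : ℕ) (t : L) : xx r t ^ p = 1 := by
  rw [xx_pow, CharP.cast_eq_zero, zero_mul, xx, xG_zero]

theorem choose_char {p : ℕ} [Fact p.Prime] [CharP L p] {k : ℕ} (h1 : 1 ≤ k) (h2 : k < p) :
    ((p.choose k : ℕ) : L) = 0 :=
  (CharP.cast_eq_zero_iff L p _).2 ((Fact.out : p.Prime).dvd_choose_self (by omega) h2)

/-- a power that kills a unipotent element in the centraliser of a toral one -/
theorem unip_bound {p : ℕ} [Fact p.Prime] [CharP L p] [NeZero N] {q : ℕ} (hpq : p ∣ q) (hq : 2 ≤ q)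
    (hodd : p ≠ 2 → q % 2 = 1) (h3 : p ≠ 3 → q % 3 ≠ 0)
    {l : List ℕ} (hl : l ∈ WL) {v : Fin chevG2.rank → ZMod N}
    (hv : ∀ b, phi v (step (mat l) b) = (q : ZMod N) * phi v b)
    (hvp : ¬ p ∣ addOrderOf v) {T : ℕ → L}
    (hT : ∀ r ∈ chevG2.posRoots, phi v (row r) ≠ 0 → T r = 0) :
    ∃ e, pw stdG2.good chevG2.posRoots T ^ e = 1 ∧ Bd p q (addOrderOf v * e) := by
  have hp := (Fact.out : p.Prime)
  have g := stdG2.good
  set n := addOrderOf v with hn
  rw [posRoots_eq] at hT ⊢
  have hpw : pw stdG2.good [6, 7, 8, 9, 10, 11] T =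
      W (T 7) (T 6) (T 8 + T 7 * T 6) (T 9 + T 7 ^ 2 * T 6) (T 10 - T 7 ^ 3 * T 6)
        (T 11 - 3 * T 7 ^ 2 * T 6 * T 8 - T 7 ^ 3 * T 6 ^ 2) := by
    rw [← pw_eq_W]
    simp [pw, xx, mul_assoc]
  by_cases hA : ∃ r < chevG2.nroots, ∃ s < chevG2.nroots,
      phi v (row r) = 0 ∧ phi v (row s) = 0 ∧ det2 (row r) (row s) ≠ 0
  · obtain ⟨r, hr, s, hs, h1, h2, hne⟩ := hA
    have hn3 : n ≤ 3 := by
      have hd := dvd_of_kills (det_kills v h1 h2)
      exact (Nat.le_of_dvd (Int.natAbs_pos.2 hne) hd).trans (pair_chk r hr s hs).2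
    have hn0 : 0 < n := addOrderOf_pos v
    have hU : pw stdG2.good [6, 7, 8, 9, 10, 11] T ∈ chevG2.posUnipotent L := by
      rw [← UL_posRoots g, posRoots_eq]
      exact pw_mem_UL g _ _
    obtain h1 | h2 : n = 1 ∨ (n = 2 ∨ n = 3) := by omega
    · rw [h1]
      simp only [one_mul]
      have small : ∀ e, (∀ k, 1 ≤ k → k ≤ 5 → p ∣ e.choose k) →
          pw stdG2.good [6, 7, 8, 9, 10, 11] T ^ e = 1 := fun e he =>
        pow_eq_one_of_choose (fun k hk1 hk2 => (CharP.cast_eq_zero_iff L p _).2 (he k hk1 hk2)) hU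
      rcases eq_or_ne p 2 with rfl | hp2
      · exact ⟨8, small 8 (by intro k h1 h2; interval_cases k <;> decide),
          .inr <| .inr <| .inr <| .inr <| .inr <| .inr ⟨rfl, .inl dvd_rfl⟩⟩
      rcases eq_or_ne p 3 with rfl | hp3
      · exact ⟨9, small 9 (by intro k h1 h2; interval_cases k <;> decide),
          .inr <| .inr <| .inr <| .inr <| .inr <| .inl ⟨.inl rfl, dvd_rfl⟩⟩
      rcases eq_or_ne p 5 with rfl | hp5
      · exact ⟨25, small 25 (by intro k h1 h2; interval_cases k <;> decide),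
          .inr <| .inr <| .inr <| .inr <| .inr <| .inl ⟨.inr rfl, dvd_rfl⟩⟩
      have hp6 : 6 ≤ p := by
        by_contra hlt
        have := hp.two_le
        interval_cases p <;> first | omega | norm_num at hp
      exact ⟨p, small p fun k h1 h2 => hp.dvd_choose_self (by omega) (by omega), .inl (dvd_mul_right _ _)⟩
    · have hab : T 7 * T 6 = 0 := by
        by_contra hne2
        obtain ⟨h7, h6⟩ := mul_ne_zero_iff.1 hne2
        have k6 : phi v (row 6) = 0 := by_contra fun hh => h6 (hT 6 (by simp) hh)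
        have k7 : phi v (row 7) = 0 := by_contra fun hh => h7 (hT 7 (by simp) hh)
        have := dvd_of_kills (det_kills v k6 k7)
        rw [det2_67, ← hn, Nat.dvd_one] at this
        omega
      rw [hpw]
      rcases eq_or_ne p 2 with rfl | hp2
      · obtain hn' | hn' := h2
        · exact absurd (dvd_of_eq hn'.symm) hvp
        refine ⟨4, ?_, .inr <| .inr <| .inr <| .inr <| .inr <| .inr ⟨rfl, .inr (by rw [hn'])⟩⟩
        have hdiv : (2 : L) = 0 := CharP.cast_eq_zero L 2
        rw [W_pow, ← W_zero]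
        norm_num [bc, Nat.choose]
        congr 1
        · linear_combination 2 * T 7 * hdiv
        · linear_combination 2 * T 6 * hdiv
        · linear_combination (2 * T 8 + 5 * (T 7 * T 6)) * hdiv
        all_goals grind
      rcases eq_or_ne p 3 with rfl | hp3
      · obtain hn' | hn' := h2
        swap
        · exact absurd (dvd_of_eq hn'.symm) hvp
        refine ⟨3, ?_, .inl ?_⟩
        swap
        · rw [hn', mul_comm]
          have := hodd hp2
          exact Nat.mul_dvd_mul_left 3 (by omega)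
        have hdiv : (3 : L) = 0 := CharP.cast_eq_zero L 3
        rw [W_pow, ← W_zero]
        norm_num [bc, Nat.choose]
        congr 1
        all_goals grind
      have hp5 : 5 ≤ p := by
        by_contra hlt
        have := hp.two_le
        interval_cases p <;> first | omega | norm_num at hp
      refine ⟨p, ?_, ?_⟩
      · rw [W_pow, ← W_zero]
        simp only [bc, choose_char (L := L) (p := p) (k := 1) le_rfl (by omega),
          choose_char (L := L) (p := p) (k := 2) (by omega) (by omega),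
          choose_char (L := L) (p := p) (k := 3) (by omega) (by omega),
          choose_char (L := L) (p := p) (k := 4) (by omega) (by omega), zero_mul, add_zero, zero_add]
        congr 1
        linear_combination (-12 * ((p.choose 5 : ℕ) : L) * T 7 * (T 7 * T 6)) * hab
      · rw [mul_comm]
        have h31 := h3 hp3
        have h21 := hodd hp2
        obtain hn' | hn' := h2 <;> rw [hn']
        · exact .inl (Nat.mul_dvd_mul_left _ (by omega))
        · rcases (show q % 3 = 1 ∨ q % 3 = 2 by omega) with hm | hm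
          · exact .inr (.inl (Nat.mul_dvd_mul_left _ (by omega)))
          · exact .inl (Nat.mul_dvd_mul_left _ (by omega))
  push Not at hA
  have hWl : Letters chevG2 l := NF_letters weylOKG2 le_rfl hl
  by_cases hB : ∃ r, chevG2.IsPosRoot r ∧ phi v (row r) = 0
  · obtain ⟨r, hr, hr0⟩ := hB
    have hrlt := hr.1
    have hone : ∀ s ∈ ([6, 7, 8, 9, 10, 11] : List ℕ), s ≠ r → T s = 0 := fun s hs hne => by
      refine hT s hs fun h0 => hne ?_
      have hsp : chevG2.IsPosRoot s := posRoots_mem.1 (posRoots_eq ▸ hs)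
      exact (pos_uniq r hrlt s hsp.1 hr hsp (hA r hrlt s hsp.1 hr0 h0)).symm
    refine ⟨p, ?_, ?_⟩
    · have hxx : pw stdG2.good [6, 7, 8, 9, 10, 11] T = xx r (T r) := by
        have hr' : r ∈ ([6, 7, 8, 9, 10, 11] : List ℕ) := posRoots_eq ▸ posRoots_mem.2 hr
        fin_cases hr' <;> simp [pw, xx, hone, xG_zero]
      rw [hxx, xx_pow_p]
    · have hstep : phi v (step (mat l) (row r)) = 0 := by rw [hv, hr0, mul_zero]
      rw [← row_wf hWl hrlt] at hstep
      have hr' := wf_lt g hWl hrlt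
      have hfix := (pair_chk r hrlt _ hr').1 (hA r hrlt _ hr' hr0 hstep)
      rw [row_wf hWl hrlt] at hfix
      have hk := List.all_eq_true.1 partner_chk l hl
      simp only [partnerOK, List.all_eq_true, List.mem_range, Bool.or_eq_true, Bool.and_eq_true,
        List.any_eq_true, beq_iff_eq, Bool.not_eq_true', decide_eq_true_eq] at hk
      rcases hk r hrlt with hno | ⟨s, -, hu, k, -, d, -, hd, hs⟩
      · rcases hfix with h | h <;> simp [h] at hno
      have h4 : ((q : ℤ) - d : ℤ) • phi v (row s) = 0 := by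
        have := hv (row s)
        rw [hs] at this
        simp only [phi] at this hr0 ⊢
        push_cast at this
        rw [zsmul_eq_mul]
        push_cast
        linear_combination -this + (k : ZMod N) * hr0
      rw [zsmul_eq_mul] at h4
      have h5 := dvd_of_two (v := v) (k := (q : ℤ) - d) hu (by rw [hr0, mul_zero]) h4
      rw [mul_comm]
      rcases hd with rfl | rfl
      · exact .inr (.inl (Nat.mul_dvd_mul_left _ (by
          rwa [show ((q : ℤ) - 1).natAbs = q - 1 by omega] at h5)))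
      · exact .inl (Nat.mul_dvd_mul_left _ (by
          rwa [show ((q : ℤ) - -1).natAbs = q + 1 by omega] at h5))
  · push Not at hB
    refine ⟨1, ?_, ?_⟩
    · have h0 : ∀ s ∈ ([6, 7, 8, 9, 10, 11] : List ℕ), T s = 0 := fun s hs =>
        hT s hs (hB s (posRoots_mem.1 (posRoots_eq ▸ hs)))
      simp [pw, h0, xG_zero]
    rw [mul_one]
    have h1 := hv (1, 0)
    have h2 := hv (0, 1)
    rw [(phi_id v).1, show step (mat l) (1, 0) = (mat l).1 by simp [step]] at h1
    rw [(phi_id v).2, show step (mat l) (0, 1) = (mat l).2 by simp [step]] at h2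
    simp only [phi] at h1 h2
    have hk := List.all_eq_true.1 kind_chk l hl
    simp only [kindOK, Bool.and_eq_true, decide_eq_true_eq] at hk
    have hscalar : ∀ d : ℤ, mat l = ((d, 0), (0, d)) → addOrderOf v ∣ ((q : ℤ) - d).natAbs := by
      intro d e
      rw [e] at h1 h2
      refine dvd_of_two (b := ((1 : ℤ), 0)) (c := (0, 1)) (.inl (by simp [det2])) ?_ ?_ <;>
        simp [phi] at h1 h2 ⊢
      · linear_combination -h1
      · linear_combination -h2
    rcases hk.1 with e | e | e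
    · refine .inr <| .inl <| (hscalar 1 e).trans ?_
      rw [show ((q : ℤ) - 1).natAbs = q - 1 by omega]
      exact dvd_mul_left _ _
    · refine .inl <| (hscalar (-1) e).trans ?_
      rw [show ((q : ℤ) - -1).natAbs = q + 1 by omega]
      exact dvd_mul_left _ _
    have hdet := dvd_of_kills (det_kills v (b := ((mat l).1.1 - (q : ℤ), (mat l).1.2))
      (c := ((mat l).2.1, (mat l).2.2 - (q : ℤ)))
      (by simp only [phi]; push_cast; linear_combination h1)
      (by simp only [phi]; push_cast; linear_combination h2))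
    have hval : det2 ((mat l).1.1 - (q : ℤ), (mat l).1.2) ((mat l).2.1, (mat l).2.2 - (q : ℤ)) =
        (q : ℤ) ^ 2 - (trd (mat l)).1 * q + (trd (mat l)).2 := by
      simp only [det2, trd]; ring
    rw [hval] at hdet
    have hq2 : q ≤ q ^ 2 := Nat.le_self_pow two_ne_zero q
    simp only [List.mem_cons, List.not_mem_nil, or_false] at e
    have hq1 : (1 : ℤ) ≤ q := by exact_mod_cast (show 1 ≤ q by omega)
    rcases e with e | e | e <;> rw [e] at hdet
    · refine .inr <| .inr <| .inl ?_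
      have hn : (((q ^ 2 - 1 : ℕ)) : ℤ) = (q : ℤ) ^ 2 - 0 * q + -1 := by
        rw [Nat.cast_sub (by omega)]; push_cast; ring
      rwa [← hn, Int.natAbs_natCast] at hdet
    · refine .inr <| .inr <| .inr <| .inl ?_
      have hn : (((q ^ 2 + q + 1 : ℕ)) : ℤ) = (q : ℤ) ^ 2 - -1 * q + 1 := by
        push_cast; ring
      rwa [← hn, Int.natAbs_natCast] at hdet
    · refine .inr <| .inr <| .inr <| .inr <| .inl ?_
      have hn : (((q ^ 2 - q + 1 : ℕ)) : ℤ) = (q : ℤ) ^ 2 - 1 * q + 1 := by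
        rw [Nat.cast_add, Nat.cast_sub hq2]; push_cast; ring
      rwa [← hn, Int.natAbs_natCast] at hdet

/-- **the orders of the elements of `G₂(q)`** -/
theorem bound {F : Type u} [Field F] [Fintype F] {p a : ℕ} [Fact p.Prime]
    (hF : Fintype.card F = p ^ a) (x : ↥(chevG2.group F)) :
    Bd p (Fintype.card F) (orderOf x) := by
  classical
  have hp := (Fact.out : p.Prime)
  have g := stdG2.good
  have : Finite (GL chevG2.Idx F) := finite_GL
  have : CharP F p := charP_of_card_eq_prime_pow hF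
  set q := Fintype.card F
  have hq : 2 ≤ q := Fintype.one_lt_card
  have ha : a ≠ 0 := by
    rintro rfl
    rw [pow_zero] at hF
    omega
  have hpq : p ∣ q := hF ▸ dvd_pow_self p ha
  have : NeZero (NN q) := ⟨(NN_pos hq).ne'⟩
  obtain ⟨P⟩ := exists_par stdG2 det1 (F := F) (NN_pos hq) (NN_coprime q)
  have hPara : Para chevG2 auxG2 := ⟨stdG2, by decide +kernel, by decide +kernel⟩
  set o := orderOf x
  have ho : o ≠ 0 := (orderOf_pos x).ne'
  set k := o.factorization p
  set m := o / p ^ k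
  have hom : p ^ k * m = o := Nat.ordProj_mul_ordCompl_eq_self o p
  have hs : orderOf (x ^ p ^ k) = m :=
    orderOf_pow_of_dvd (pow_ne_zero _ hp.ne_zero) (Nat.ordProj_dvd o p)
  have hreg : ¬ p ∣ orderOf (x ^ p ^ k) := hs ▸ Nat.not_dvd_ordCompl hp ho
  obtain ⟨w, v, G, hG, hv, hx, hord⟩ :=
    P.toral det1 hPara p card_diag (NN_coprime q) (det_ne hq) (dvd_NN q) (det_sum q) (x ^ p ^ k) hreg
  have : CharP P.L p := charP_of_injective_ringHom P.ι.injective p
  obtain ⟨l, hl, hml⟩ := mat_wd w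
  have hstep : ∀ b, phi v (step (mat l) b) = (q : ZMod (NN q)) * phi v b := fun b => hml ▸ phi_step hv b
  obtain ⟨c, hc⟩ := exists_dgn_eq_tor g det1 fun i => zp P.ζ (v i)
  set m' := Matrix.GeneralLinearGroup.map (n := chevG2.Idx) P.ι
  set u' := G⁻¹ * m' ((x ^ m : ↥(chevG2.group F)) : GL chevG2.Idx F) * G with hu'
  have hu'mem : u' ∈ chevG2.group P.L :=
    mul_mem (mul_mem (inv_mem hG) (CfsgLib.KnownB.ChevField.group_map_le g P.ι ⟨_, (x ^ m).2, rfl⟩)) hG
  have hu'k : u' ^ p ^ k = 1 := by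
    rw [hu', show G⁻¹ * m' ((x ^ m : ↥(chevG2.group F)) : GL chevG2.Idx F) * G =
      G⁻¹ * m' ((x ^ m : ↥(chevG2.group F)) : GL chevG2.Idx F) * G⁻¹⁻¹ by rw [inv_inv],
      conj_pow, ← map_pow, ← Subgroup.coe_pow, ← pow_mul, mul_comm, hom, pow_orderOf_eq_one]
    simp
  have hcomm : u' * tor chevG2 auxG2 c = tor chevG2 auxG2 c * u' := by
    rw [← hc]
    have h1 : m' ((x ^ m : ↥(chevG2.group F)) : GL chevG2.Idx F) *
        m' ((x ^ p ^ k : ↥(chevG2.group F)) : GL chevG2.Idx F) =
      m' ((x ^ p ^ k : ↥(chevG2.group F)) : GL chevG2.Idx F) *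
        m' ((x ^ m : ↥(chevG2.group F)) : GL chevG2.Idx F) := by
      rw [← map_mul, ← map_mul, ← Subgroup.coe_mul, ← Subgroup.coe_mul, ← pow_add, ← pow_add, add_comm]
    rw [show m' ((x ^ p ^ k : ↥(chevG2.group F)) : GL chevG2.Idx F) = G * P.tv v * G⁻¹ from hx] at h1
    have := congrArg (fun y => G⁻¹ * y * G) h1
    simp only [Par.tv] at this
    rw [hu']
    calc _ = G⁻¹ * (m' ((x ^ m : ↥(chevG2.group F)) : GL chevG2.Idx F) *
          (G * dgn chevG2 auxG2 (fun i => zp P.ζ (v i)) * G⁻¹)) * G := by group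
      _ = _ := this
      _ = _ := by group
  obtain ⟨z, T, hT, hz⟩ := cent_conj stdG2 c (hH P.prim hc) hu'mem hu'k hcomm
  obtain ⟨e, he, hb⟩ := unip_bound (L := P.L) (T := T) hpq hq
    (fun h2 => by
      rw [hF, Nat.pow_mod]
      rcases hp.eq_two_or_odd with h | h
      · exact absurd h h2
      · simp [h])
    (fun h3 h0 => h3 (((Nat.prime_dvd_prime_iff_eq Nat.prime_three hp).1
      (Nat.prime_three.dvd_of_dvd_pow (hF ▸ Nat.dvd_of_mod_eq_zero h0))).symm))
    hl hstep (hord ▸ hreg) fun r hr hne => hT r hr (fun h1 => hne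
      ((killed_iff P.prim hc (posRoots_mem.1 hr).1).1 h1))
  refine hb.of_dvd (orderOf_dvd_of_pow_eq_one ?_)
  rw [← hord, hs, pow_mul]
  apply Subtype.ext
  apply (fun a b e => Units.ext (Matrix.map_injective P.ι.injective (congrArg Units.val e)) :
    Function.Injective m')
  rw [Subgroup.coe_pow, map_pow, Subgroup.coe_one, map_one]
  rw [← hz] at he
  rw [conj_pow, mul_inv_eq_one, mul_eq_left, hu',
    show G⁻¹ * m' ((x ^ m : ↥(chevG2.group F)) : GL chevG2.Idx F) * G =
      G⁻¹ * m' ((x ^ m : ↥(chevG2.group F)) : GL chevG2.Idx F) * G⁻¹⁻¹ by rw [inv_inv],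
    conj_pow, mul_inv_eq_one, mul_eq_left] at he
  exact he

end CfsgLib.Chev.G2Spec
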