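/-
Elements of `G₂(q)` of the expected orders.
-/
import Cfsg.Agent.Lib.Chev.G2Spec.Semi

set_option autoImplicit false
set_option maxRecDepth 100000

namespace CfsgLib.Chev.G2Spec

open Cfsg.Lie Matrix CfsgLib.Chev CfsgLib.Chev.SylowTori CfsgLib.Chev.SemiToral
open CfsgLib.Chev.Lang (dgn dgn_conj_xG map_dgn tor_eq_dgn)

universe u

variable {F : Type u} [Field F] [Fintype F]

/-- a twisted torus element times a fixed element commuting with it is rational -/
theorem realise {N : ℕ} (hN : 0 < N) (hco : (Fintype.card F).Coprime N) {l : List ℕ}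
    (hl : Letters chevG2 l) {v : Fin chevG2.rank → ZMod N}
    (hv : v ∈ eigen (ZMod N) chevG2 auxG2 l (Fintype.card F : ZMod N)) {e : ℕ}
    (hce : (addOrderOf v).Coprime e)
    (hu : ∀ (L : Type) [Field L] (ι : F →+* L) (σ : L →+* L), (∀ x, σ x = x ^ Fintype.card F) →
      ∀ ζ : Lˣ, IsPrimitiveRoot ζ N → ∃ u ∈ chevG2.group L,
        nW L stdG2.good l * Matrix.GeneralLinearGroup.map σ u * (nW L stdG2.good l)⁻¹ = u ∧
          Commute (dgn chevG2 auxG2 fun i => zp ζ (v i)) u ∧ orderOf u = e) :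
    ∃ x : ↥(chevG2.group F), orderOf x = addOrderOf v * e := by
  have g := stdG2.good
  have : NeZero N := ⟨hN.ne'⟩
  obtain ⟨L, _, _, ι, σ, hσ, hbij, hdvd, hlang⟩ := lang_finite stdG2 det1 (F := F) hN hco
  obtain ⟨γ, hγ⟩ := IsCyclic.exists_ofOrder_eq_natCard (α := Lˣ)
  rw [Nat.card_units, Nat.card_eq_fintype_card] at hγ
  obtain ⟨k, hk⟩ := hdvd
  have hζ : IsPrimitiveRoot (γ ^ k) N :=
    (hγ ▸ IsPrimitiveRoot.orderOf γ).pow (by have := Fintype.one_lt_card (α := L); omega)
      (by rw [hk, mul_comm])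
  set ζ := γ ^ k
  obtain ⟨u, humem, hufix, hcomm, huord⟩ := hu L ι σ hσ ζ hζ
  obtain ⟨G, hG, hGt⟩ := hlang l hl
  set a : Fin chevG2.rank → Lˣ := fun i => zp ζ (v i) with ha
  set a' : Fin chevG2.rank → Lˣ := fun i => Units.map (σ : L →* L) (a i)
  obtain ⟨c, hc⟩ := exists_dgn_eq_tor g det1 a'
  obtain ⟨c', hc'⟩ := monomial_conj_tor g (nW_mem (F := L) g hl) c
  have hb : nW L g l * dgn chevG2 auxG2 a' * (nW L g l)⁻¹ =
      dgn chevG2 auxG2 fun i => chi chevG2 auxG2 c' (chevG2.simple i) := by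
    rw [hc, hc', tor_eq_dgn g]
  have hfixd : nW L g l * dgn chevG2 auxG2 a' * (nW L g l)⁻¹ = dgn chevG2 auxG2 a := by
    rw [hb]
    congr 1
    funext i
    have hs := g.simple_lt i i.isLt
    have hs' := wf_lt g hl.reverse hs
    have h2 := Tori.conj_dgn_wt stdG2 (nW_acts g hl) hb hs'
    rw [wf_rev_right g hl hs, wt_simple g _ i.isLt, Lang.ext, dif_pos i.isLt] at h2
    rw [h2, show wt chevG2 auxG2 (Lang.ext a') (wf auxG2 l.reverse (chevG2.simple i)) =
        wt chevG2 auxG2 (Lang.ext a) (wf auxG2 l.reverse (chevG2.simple i)) ^ Fintype.card F by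
      rw [wt, wt, ← Finset.prod_pow]
      refine Finset.prod_congr rfl fun j hj => ?_
      rw [Lang.ext, Lang.ext, dif_pos (Finset.mem_range.1 hj), dif_pos (Finset.mem_range.1 hj),
        ← map_zpow]
      exact Units.ext (hσ _), wt_zp hζ, ← zp_nat hζ]
    show zp ζ _ = zp ζ (v i)
    congr 1
    have h3 := lin_wf g hl hs' v
    rw [wf_rev_right g hl hs, mem_eigen.1 hv, map_smul, smul_eq_mul, lin_simple g] at h3
    exact h3.symm
  have hfix : Matrix.GeneralLinearGroup.map σ (G * (dgn chevG2 auxG2 a * u) * G⁻¹) =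
      G * (dgn chevG2 auxG2 a * u) * G⁻¹ := by
    rw [map_mul, map_mul, map_inv, map_mul, hGt, map_dgn]
    calc G * nW L g l * (dgn chevG2 auxG2 a' * Matrix.GeneralLinearGroup.map σ u) * (G * nW L g l)⁻¹
        = G * ((nW L g l * dgn chevG2 auxG2 a' * (nW L g l)⁻¹) *
          (nW L g l * Matrix.GeneralLinearGroup.map σ u * (nW L g l)⁻¹)) * G⁻¹ := by group
      _ = _ := by rw [hfixd, hufix]
  obtain ⟨x, hx⟩ := descend stdG2 det1 ι hσ hbij
    (mul_mem (mul_mem hG (mul_mem (dgn_mem g det1 _) humem)) (inv_mem hG)) hfix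
  refine ⟨x, ?_⟩
  have hinj : Function.Injective (Matrix.GeneralLinearGroup.map (n := chevG2.Idx) ι) :=
    fun a b e => Units.ext (Matrix.map_injective ι.injective (congrArg Units.val e))
  have hda : orderOf (dgn chevG2 auxG2 a) = addOrderOf v := by
    let E : Multiplicative (Fin chevG2.rank → ZMod N) →* (Fin chevG2.rank → Lˣ) := MonoidHom.mk'
      (fun y i => zp ζ ((Multiplicative.toAdd y) i)) fun y z => funext fun i => zp_add hζ _ _
    have hE : Function.Injective E := fun y z e =>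
      Multiplicative.toAdd.injective (funext fun i => zp_inj hζ (congrFun e i))
    rw [orderOf_injective _ (dgn_inj g), ← orderOf_ofAdd_eq_addOrderOf, ← orderOf_injective E hE]
    rfl
  rw [← Subgroup.orderOf_coe, ← orderOf_injective _ hinj, hx,
    show G * (dgn chevG2 auxG2 a * u) * G⁻¹ = MulAut.conj G (dgn chevG2 auxG2 a * u) from rfl,
    MulEquiv.orderOf_eq, hcomm.orderOf_mul_eq_mul_orderOf_of_coprime (by rw [hda, huord]; exact hce),
    hda, huord]

/-! ### vectors -/

variable {N : ℕ}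

/-- a vector -/
def vec (x y : ZMod N) : Fin chevG2.rank → ZMod N := fun i => if i.val = 0 then x else y

theorem vec_apply (x y : ZMod N) : vec x y (0 : Fin 2) = x ∧ vec x y (1 : Fin 2) = y :=
  ⟨if_pos rfl, if_neg (by decide)⟩

theorem phi_vec (x y : ZMod N) (b : ℤ × ℤ) : phi (vec x y) b = (b.1 : ZMod N) * x + b.2 * y := by
  simp only [phi, (vec_apply x y).1, (vec_apply x y).2]

theorem eigen_vec {l : List ℕ} {M : M2} (hM : mat l = M) {c x y : ZMod N}
    (h1 : (M.1.1 : ZMod N) * x + M.1.2 * y = c * x) (h2 : (M.2.1 : ZMod N) * x + M.2.2 * y = c * y) :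
    vec x y ∈ eigen (ZMod N) chevG2 auxG2 l c := by
  subst hM
  refine mem_eigen.2 (funext fun i => ?_)
  show lin chevG2 auxG2 (wf auxG2 l (chevG2.simple i)) (vec x y) = c * vec x y i
  rw [lin_row, phi_vec]
  obtain ⟨i, hi⟩ := i
  have : i = 0 ∨ i = 1 := by
    have : i < 2 := hi
    omega
  rcases this with rfl | rfl
  · exact h1.trans (congrArg (c * ·) (vec_apply x y).1.symm)
  · exact h2.trans (congrArg (c * ·) (vec_apply x y).2.symm)

theorem order_vec [NeZero N] {x y : ZMod N}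
    (h : ∀ k : ℕ, (k : ZMod N) * x = 0 → (k : ZMod N) * y = 0 → (k : ZMod N) = 0) :
    addOrderOf (vec x y) = N := by
  refine Nat.dvd_antisymm (addOrderOf_dvd_iff_nsmul_eq_zero.2 (funext fun i => ?_)) ?_
  · rw [Pi.smul_apply, nsmul_eq_mul, ZMod.natCast_self, zero_mul]; rfl
  · have h0 := addOrderOf_nsmul_eq_zero (vec x y)
    have hk : ∀ i, (addOrderOf (vec x y) : ZMod N) * vec x y i = 0 := fun i => by
      rw [← nsmul_eq_mul, ← Pi.smul_apply, h0]; rfl
    exact (ZMod.natCast_eq_zero_iff _ _).1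
      (h _ (by simpa [(vec_apply x y).1] using hk (0 : Fin 2))
        (by simpa [(vec_apply x y).2] using hk (1 : Fin 2)))

/-! ### unipotent orders -/

variable {K : Type*} [Field K]

theorem orderOf_xx {p : ℕ} [Fact p.Prime] [CharP K p] {r : ℕ} (hr : r ∈ ([6, 7, 8, 9, 10, 11] : List ℕ))
    {t : K} (ht : t ≠ 0) : orderOf (xx r t) = p := by
  refine orderOf_eq_prime (xx_pow_p r t) fun e => ht ?_
  have hr' : r < chevG2.nroots := (posRoots_mem.1 (posRoots_eq ▸ hr : r ∈ chevG2.posRoots)).1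
  by_contra h0
  rw [← xG_zero stdG2.good r] at e
  have h1 := pw_inj stdG2 upList_posRoots
    (T := Function.update (0 : ℕ → K) r t) (T' := 0) ?_ r (posRoots_eq ▸ hr)
  · exact h0 (by simpa using h1)
  · rw [posRoots_eq]
    fin_cases hr <;> simp [pw, xx, xG_zero] at e ⊢ <;> exact e

theorem dgn_comm_xx [NeZero N] {ζ : Kˣ} (hζ : IsPrimitiveRoot ζ N) {v : Fin chevG2.rank → ZMod N} {r : ℕ}
    (hr : r < chevG2.nroots) (h : phi v (row r) = 0) (t : K) :
    Commute (dgn chevG2 auxG2 fun i => zp ζ (v i)) (xx r t) := by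
  have h1 := dgn_conj_xG stdG2.good (fun i => zp ζ (v i)) hr (t := t)
  rw [wt_zp hζ, lin_row, h, show zp ζ (0 : ZMod N) = 1 by simpa using zp_cast hζ (0 : ℤ),
    Units.val_one, one_mul] at h1
  exact mul_inv_eq_iff_eq_mul.1 h1

theorem map_xx {L : Type*} [Field L] (σ : K →+* L) {r : ℕ} (t : K) :
    Matrix.GeneralLinearGroup.map σ (xx r t) = xx r (σ t) :=
  CfsgLib.KnownB.ChevField.map_xG stdG2.good σ r t

theorem W_mem (a b c d f g : K) : W a b c d f g ∈ chevG2.group K := by
  simp only [W]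
  exact mul_mem (mul_mem (mul_mem (mul_mem (mul_mem (xG_mem_group _ _ _) (xG_mem_group _ _ _))
    (xG_mem_group _ _ _)) (xG_mem_group _ _ _)) (xG_mem_group _ _ _)) (xG_mem_group _ _ _)

theorem W_order_two {p : ℕ} [CharP K p] (hp : p = 2) :
    orderOf (W (1 : K) 1 0 0 0 0) = 8 := by
  subst hp
  have h2 : (2 : K) = 0 := CharP.cast_eq_zero K 2
  refine orderOf_eq_prime_pow (p := 2) (n := 2) (fun e => ?_) ?_
  · rw [W_pow] at e
    obtain ⟨-, -, -, -, -, h⟩ := W_eq_one e
    norm_num [bc, Nat.choose] at h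
    grind
  · rw [W_pow, ← W_zero]
    norm_num [bc, Nat.choose]
    congr 1 <;> grind

theorem W_order_three {p : ℕ} [CharP K p] (hp : p = 3) :
    orderOf (W (1 : K) 1 0 0 0 0) = 9 := by
  subst hp
  have h3 : (3 : K) = 0 := CharP.cast_eq_zero K 3
  refine orderOf_eq_prime_pow (p := 3) (n := 1) (fun e => ?_) ?_
  · rw [W_pow] at e
    obtain ⟨-, -, -, h, -, -⟩ := W_eq_one e
    norm_num [bc, Nat.choose] at h
    grind
  · rw [W_pow, ← W_zero]
    norm_num [bc, Nat.choose]
    congr 1 <;> grind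

theorem W_order_five {p : ℕ} [CharP K p] (hp : p = 5) :
    orderOf (W (1 : K) 1 0 0 0 0) = 25 := by
  subst hp
  have h5 : (5 : K) = 0 := CharP.cast_eq_zero K 5
  have := Fact.mk Nat.prime_five
  refine orderOf_eq_prime_pow (p := 5) (n := 1) (fun e => ?_) ?_
  · rw [W_pow] at e
    obtain ⟨-, -, -, -, -, h⟩ := W_eq_one e
    norm_num [bc, Nat.choose] at h
    grind
  · exact pow_eq_one_of_choose (fun k h1 h2 => (CharP.cast_eq_zero_iff K 5 _).2
      (by interval_cases k <;> decide)) (by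
      rw [W_eq_pw, ← UL_posRoots stdG2.good, posRoots_eq]
      exact pw_mem_UL _ _ _)

theorem W_order_twelve [CharP K 2] (g : K) : orderOf (W (0 : K) 1 0 0 1 g) = 4 := by
  have h2 : (2 : K) = 0 := CharP.cast_eq_zero K 2
  refine orderOf_eq_prime_pow (p := 2) (n := 1) (fun e => ?_) ?_
  · rw [W_pow] at e
    obtain ⟨-, -, -, -, -, h⟩ := W_eq_one e
    norm_num [bc, Nat.choose] at h
    grind
  · rw [W_pow, ← W_zero]
    norm_num [bc, Nat.choose]
    congr 1 <;> grind

/-! ### the elements -/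

theorem mat_values : mat [] = ((1, 0), (0, 1)) ∧ mat [0] = ((-1, 0), (3, 1)) ∧
    mat [1] = ((1, 1), (0, -1)) ∧ mat [1, 0, 1, 0] = ((-2, -1), (3, 1)) ∧
    mat [1, 0] = ((-1, -1), (3, 2)) := by decide +kernel

theorem refl_values : auxG2.refl 0 11 = 11 ∧ auxG2.eta 0 11 = 1 ∧ auxG2.refl 0 6 = 10 ∧
    (auxG2.eta 0 6).natAbs = 1 ∧ auxG2.refl 0 10 = 6 ∧ (auxG2.eta 0 10).natAbs = 1 ∧
    row 6 = (0, 1) ∧ row 10 = (3, 1) ∧ row 11 = (3, 2) := by decide +kernel

theorem cast_of_eq {N : ℕ} {z : ℤ} (h : (N : ℤ) = z) : (z : ZMod N) = 0 := by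
  rw [← h, Int.cast_natCast, ZMod.natCast_self]

theorem coprime_of_mod {p N q : ℕ} (hp : p.Prime) {a : ℕ} (hq : q = p ^ a) (h : ¬ p ∣ N) : q.Coprime N :=
  hq ▸ ((hp.coprime_iff_not_dvd).2 h).pow_left a

variable {p a : ℕ}

theorem not_dvd_succ (hp : p.Prime) {M n : ℕ} (hM : p ∣ M) (h : n = M + 1) : ¬ p ∣ n := fun hd =>
  hp.not_dvd_one ((Nat.dvd_add_right hM).1 (h ▸ hd))

theorem not_dvd_pred (hp : p.Prime) {M n : ℕ} (hM : p ∣ M) (h : M = n + 1) : ¬ p ∣ n := fun hd =>
  hp.not_dvd_one ((Nat.dvd_add_right hd).1 (h ▸ hM))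

/-- tori -/
theorem exists_torus {l : List ℕ} {M : M2} (hM : mat l = M) (hl : Letters chevG2 l) {n : ℕ} (hn : 0 < n)
    (hco : (Fintype.card F).Coprime n) {x y : ZMod n}
    (h1 : (M.1.1 : ZMod n) * x + M.1.2 * y = (Fintype.card F : ZMod n) * x)
    (h2 : (M.2.1 : ZMod n) * x + M.2.2 * y = (Fintype.card F : ZMod n) * y) (hx : x = 1) :
    ∃ z : ↥(chevG2.group F), orderOf z = n := by
  have : NeZero n := ⟨hn.ne'⟩
  obtain ⟨z, hz⟩ := realise hn hco hl (eigen_vec hM h1 h2) (e := 1) (Nat.coprime_one_right _)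
    fun L _ ι σ _ ζ _ => ⟨1, one_mem _, by simp, Commute.one_right _, orderOf_one⟩
  refine ⟨z, hz.trans ?_⟩
  rw [mul_one, order_vec (fun k hk _ => by simpa [hx] using hk)]

/-- elements whose semisimple part centralises a long root group -/
theorem exists_mixed (hp : p.Prime) [CharP F p] {l : List ℕ} {M : M2} (hM : mat l = M)
    (hl : Letters chevG2 l) {n : ℕ} (hn : 0 < n) (hco : (Fintype.card F).Coprime n) (hnp : n.Coprime p)
    (h1 : (M.1.1 : ZMod n) * 2 + M.1.2 * -3 = (Fintype.card F : ZMod n) * 2)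
    (h2 : (M.2.1 : ZMod n) * 2 + M.2.2 * -3 = (Fintype.card F : ZMod n) * -3)
    (hfix : ∀ (L : Type) [Field L], nW L stdG2.good l * xx 11 (1 : L) * (nW L stdG2.good l)⁻¹ = xx 11 1) :
    ∃ z : ↥(chevG2.group F), orderOf z = p * n := by
  have : Fact p.Prime := ⟨hp⟩
  have : NeZero n := ⟨hn.ne'⟩
  have hord : addOrderOf (vec (2 : ZMod n) (-3)) = n := order_vec fun k hk hk' => by
    linear_combination -hk - hk'
  obtain ⟨z, hz⟩ := realise hn hco hl (eigen_vec hM h1 h2) (e := p) (hord.symm ▸ hnp)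
    fun L _ ι σ _ ζ hζ => by
      have : CharP L p := charP_of_injective_ringHom ι.injective p
      refine ⟨xx 11 1, xG_mem_group _ _ _, ?_, dgn_comm_xx hζ (by decide +kernel) ?_ _,
        orderOf_xx (by simp) one_ne_zero⟩
      · rw [map_xx, map_one]; exact hfix L
      · rw [phi_vec, refl_values.2.2.2.2.2.2.2.2]; push_cast; ring
  exact ⟨z, by rw [hz, hord, mul_comm]⟩

/-- **all expected orders occur** -/
theorem exists_orders (hp : p.Prime) (hF : Fintype.card F = p ^ a) {n : ℕ}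
    (hn : n = p * (Fintype.card F + 1) ∨ n = p * (Fintype.card F - 1) ∨
      n = Fintype.card F ^ 2 - 1 ∨ n = Fintype.card F ^ 2 + Fintype.card F + 1 ∨
      n = Fintype.card F ^ 2 - Fintype.card F + 1 ∨ ((p = 3 ∨ p = 5) ∧ n = p ^ 2) ∨
      (p = 2 ∧ (n = 8 ∨ n = 12))) :
    ∃ z : ↥(chevG2.group F), orderOf z = n := by
  have : Fact p.Prime := ⟨hp⟩
  have : CharP F p := charP_of_card_eq_prime_pow hF
  set q := Fintype.card F with hq
  have hq2 : 2 ≤ q := Fintype.one_lt_card
  have hpq : p ∣ q := by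
    rcases Nat.eq_zero_or_pos a with rfl | ha
    · simp at hF; omega
    · exact hF ▸ dvd_pow_self p ha.ne'
  have hqq : q ≤ q ^ 2 := Nat.le_self_pow two_ne_zero q
  have hpqq : p ∣ q ^ 2 := dvd_pow hpq two_ne_zero
  have g := stdG2.good
  have h0 : Letters chevG2 [] := by simp [Letters]
  have hW : ∀ m, orderOf (W (1 : F) 1 0 0 0 0) = m →
      ∃ z : ↥(chevG2.group F), orderOf z = m := fun m hm =>
    ⟨⟨_, W_mem _ _ _ _ _ _⟩, by rw [← Subgroup.orderOf_coe, hm]⟩
  rcases hn with rfl | rfl | rfl | rfl | rfl | ⟨hp35, rfl⟩ | ⟨hp2, rfl | rfl⟩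
  · refine exists_mixed hp (l := [0]) mat_values.2.1 (by simp [Letters, chevG2]) (by omega)
      (coprime_of_mod hp hF (not_dvd_succ hp hpq rfl))
      ((hp.coprime_iff_not_dvd.2 (not_dvd_succ hp hpq rfl)).symm) ?_ ?_ fun L _ => ?_
    · have hc := cast_of_eq (N := q + 1) (z := (q : ℤ) + 1) (by push_cast; ring)
      push_cast at hc ⊢
      linear_combination -2 * hc
    · have hc := cast_of_eq (N := q + 1) (z := (q : ℤ) + 1) (by push_cast; ring)
      push_cast at hc ⊢
      linear_combination 3 * hc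
    · rw [show nW L stdG2.good [0] = nS L stdG2.good 0 by simp [nW],
        nS_conj_xG stdG2.good (by decide +kernel) (by decide +kernel), refl_values.1, refl_values.2.1,
        Int.cast_one, one_mul]
  · refine exists_mixed hp (l := []) mat_values.1 h0 (by omega)
      (coprime_of_mod hp hF (not_dvd_pred hp hpq (by omega)))
      ((hp.coprime_iff_not_dvd.2 (not_dvd_pred hp hpq (by omega))).symm) ?_ ?_ fun L _ => by simp [nW]
    · have hc := cast_of_eq (N := q - 1) (z := (q : ℤ) - 1) (by rw [Nat.cast_sub (by omega)]; rfl)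
      push_cast at hc ⊢
      linear_combination -2 * hc
    · have hc := cast_of_eq (N := q - 1) (z := (q : ℤ) - 1) (by rw [Nat.cast_sub (by omega)]; rfl)
      push_cast at hc ⊢
      linear_combination 3 * hc
  · have hc := cast_of_eq (N := q ^ 2 - 1) (z := (q : ℤ) ^ 2 - 1)
      (by rw [Nat.cast_sub (by omega)]; push_cast; rfl)
    push_cast at hc
    refine exists_torus (l := [1]) (x := 1) (y := (q : ZMod (q ^ 2 - 1)) - 1) mat_values.2.2.1
      (by simp [Letters, chevG2]) (by omega)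
      (coprime_of_mod hp hF (not_dvd_pred hp hpqq (by omega))) ?_ ?_ rfl
    · push_cast; ring
    · push_cast; linear_combination -hc
  · have hc := cast_of_eq (N := q ^ 2 + q + 1) (z := (q : ℤ) ^ 2 + q + 1) (by push_cast; ring)
    push_cast at hc
    refine exists_torus (l := [1, 0, 1, 0]) (x := 1) (y := -(q : ZMod (q ^ 2 + q + 1)) - 2) mat_values.2.2.2.1
      (by simp [Letters, chevG2]) (by omega)
      (coprime_of_mod hp hF (not_dvd_succ hp (dvd_add hpqq hpq) rfl)) ?_ ?_ rfl
    · push_cast; ring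
    · push_cast; linear_combination hc
  · have hc := cast_of_eq (N := q ^ 2 - q + 1) (z := (q : ℤ) ^ 2 - q + 1)
      (by rw [Nat.cast_add, Nat.cast_sub hqq]; push_cast; ring)
    push_cast at hc
    refine exists_torus (l := [1, 0]) (x := 1) (y := -(q : ZMod (q ^ 2 - q + 1)) - 1) mat_values.2.2.2.2
      (by simp [Letters, chevG2]) (by omega)
      (coprime_of_mod hp hF (not_dvd_succ hp (Nat.dvd_sub hpqq hpq) rfl)) ?_ ?_ rfl
    · push_cast; ring
    · push_cast; linear_combination hc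
  · rcases hp35 with h | h
    · exact hW _ (by rw [h]; exact W_order_three h)
    · exact hW _ (by rw [h]; exact W_order_five h)
  · exact hW _ (W_order_two hp2)
  · subst hp2
    have : NeZero 3 := ⟨by norm_num⟩
    have h3q : ¬ 3 ∣ q := fun hd =>
      absurd ((Nat.prime_dvd_prime_iff_eq Nat.prime_three hp).1
        (Nat.prime_three.dvd_of_dvd_pow (hF ▸ hd))) (by norm_num)
    have hord : addOrderOf (vec (1 : ZMod 3) 0) = 3 := order_vec fun k hk _ => by simpa using hk
    have hphi : ∀ r, r = 6 ∨ r = 10 ∨ r = 11 → phi (vec (1 : ZMod 3) 0) (row r) = 0 := by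
      have h30 : ((3 : ℤ) : ZMod 3) = 0 := cast_of_eq rfl
      rintro r (rfl | rfl | rfl) <;>
        simp [phi_vec, refl_values.2.2.2.2.2.2.1, refl_values.2.2.2.2.2.2.2.1,
          refl_values.2.2.2.2.2.2.2.2] <;> exact h30
    have hW4 : ∀ (L : Type) [Field L] (ζ : Lˣ), IsPrimitiveRoot ζ 3 → ∀ t : L,
        Commute (dgn chevG2 auxG2 fun i => zp ζ (vec (1 : ZMod 3) 0 i)) (W 0 1 0 0 1 t) := by
      intro L _ ζ hζ t
      simp only [W, xx, xG_zero, one_mul, mul_one]
      exact ((dgn_comm_xx hζ (by decide +kernel) (hphi 6 (.inl rfl)) 1).mul_right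
        (dgn_comm_xx hζ (by decide +kernel) (hphi 10 (.inr (.inl rfl))) 1)).mul_right
        (dgn_comm_xx hζ (by decide +kernel) (hphi 11 (.inr (.inr rfl))) t)
    rcases (show q % 3 = 1 ∨ q % 3 = 2 by omega) with hm | hm
    · have hqc : (q : ZMod 3) = 1 := by rw [← ZMod.natCast_mod, hm, Nat.cast_one]
      obtain ⟨z, hz⟩ := realise (F := F) (N := 3) (l := []) (by norm_num)
        (coprime_of_mod hp hF (by decide)) h0
        (eigen_vec (x := (1 : ZMod 3)) (y := 0) mat_values.1 (by simp [← hq, hqc]) (by simp)) (e := 4)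
        (by rw [hord]; decide) fun L _ ι σ _ ζ hζ => by
          have : CharP L 2 := charP_of_injective_ringHom ι.injective 2
          refine ⟨W 0 1 0 0 1 0, W_mem _ _ _ _ _ _, ?_, hW4 L ζ hζ 0, W_order_twelve 0⟩
          simp [nW, W, map_xx]
      exact ⟨z, by rw [hz, hord]⟩
    · have hqc : (q : ZMod 3) = 2 := by rw [← ZMod.natCast_mod, hm]; rfl
      obtain ⟨z, hz⟩ := realise (F := F) (N := 3) (l := [0]) (by norm_num)
        (coprime_of_mod hp hF (by decide)) (by simp [Letters, chevG2])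
        (eigen_vec (x := (1 : ZMod 3)) (y := 0) mat_values.2.1 (by rw [← hq, hqc]; decide)
          (by rw [← hq, hqc]; decide)) (e := 4)
        (by rw [hord]; decide) fun L _ ι σ hσ ζ hζ => by
          have : CharP L 2 := charP_of_injective_ringHom ι.injective 2
          refine ⟨W 0 1 0 0 1 (ζ : L), W_mem _ _ _ _ _ _, ?_, hW4 L ζ hζ _, W_order_twelve _⟩
          have h2 : (2 : L) = 0 := CharP.cast_eq_zero L 2
          have hpm : ∀ k : ℤ, k.natAbs = 1 → (k : L) = 1 := by
            intro k hk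
            rcases Int.natAbs_eq k with e | e <;> rw [e, hk]
            · simp
            · push_cast; linear_combination -h2
          have hz1 : (ζ : L) ^ 2 + (ζ : L) = 1 := by
            have hζ' : IsPrimitiveRoot (ζ : L) 3 := IsPrimitiveRoot.coe_units_iff.2 hζ
            have := hζ'.geom_sum_eq_zero (by norm_num)
            simp [Finset.sum_range_succ] at this
            linear_combination this - h2
          have hσζ : σ (ζ : L) = (ζ : L) ^ 2 := by
            rw [hσ, ← hq, ← Nat.div_add_mod q 3, hm, pow_add, pow_mul,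
              ← Units.val_pow_eq_pow_val ζ 3, hζ.pow_eq_one, Units.val_one, one_pow, one_mul]
          simp only [W, map_mul, map_xx, map_zero, map_one, hσζ, xx, xG_zero, one_mul, mul_one]
          rw [show nW L stdG2.good [0] = nS L stdG2.good 0 by simp [nW],
            show ∀ y1 y2 y3 n : GL chevG2.Idx L, n * (y1 * y2 * y3) * n⁻¹ =
              n * y1 * n⁻¹ * (n * y2 * n⁻¹) * (n * y3 * n⁻¹) from fun _ _ _ _ => by group,
            nS_conj_xG stdG2.good (by decide +kernel) (by decide +kernel),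
            nS_conj_xG stdG2.good (by decide +kernel) (by decide +kernel),
            nS_conj_xG stdG2.good (by decide +kernel) (by decide +kernel), refl_values.1, refl_values.2.1,
            refl_values.2.2.1, refl_values.2.2.2.2.1, hpm _ refl_values.2.2.2.1,
            hpm _ refl_values.2.2.2.2.2.1, Int.cast_one, one_mul, one_mul]
          have := swap106 (K := L) 1 1
          simp only [xx, one_mul] at this
          rw [this, mul_assoc, mul_assoc, xG_add, mul_assoc]
          congr 3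
          linear_combination hz1 - (1 : L) * h2 * (ζ : L)
      exact ⟨z, by rw [hz, hord]⟩

end CfsgLib.Chev.G2Spec
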