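/-
The maximal element orders of `G₂(q)`.
-/
import Cfsg.Agent.Lib.Chev.G2Spec.Exist

set_option autoImplicit false

namespace CfsgLib.Chev.G2Spec

open Cfsg.Lie CfsgLib.Chev

/-- the maximal elements of a set covered by an antichain -/
theorem maximal_eq {R S : Set ℕ} (hin : S ⊆ R) (hcov : ∀ m ∈ R, ∃ s ∈ S, m ∣ s)
    (hanti : ∀ s ∈ S, ∀ t ∈ S, s ∣ t → s = t) :
    {n : ℕ | n ∈ R ∧ ∀ m ∈ R, n ∣ m → m = n} = S := by
  ext n
  constructor
  · rintro ⟨hn, hmax⟩
    obtain ⟨s, hs, hns⟩ := hcov n hn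
    rwa [← hmax s (hin hs) hns]
  · intro hn
    refine ⟨hin hn, fun m hm hnm => ?_⟩
    obtain ⟨s, hs, hms⟩ := hcov m hm
    have e := hanti n hn s hs (hnm.trans hms)
    exact Nat.dvd_antisymm (e ▸ hms) hnm

/-- one expected order does not divide another -/
theorem antichain {p q : ℕ} (hp : p.Prime) (hp2 : p ≠ 2) (hpq : p ∣ q) (hq : 5 ≤ q) (hodd : q % 2 = 1)
    {s t : ℕ}
    (hs : s = p * (q + 1) ∨ s = p * (q - 1) ∨ s = q ^ 2 - 1 ∨ s = q ^ 2 + q + 1 ∨ s = q ^ 2 - q + 1 ∨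
      s = p ^ 2)
    (ht : t = p * (q + 1) ∨ t = p * (q - 1) ∨ t = q ^ 2 - 1 ∨ t = q ^ 2 + q + 1 ∨ t = q ^ 2 - q + 1 ∨
      t = p ^ 2)
    (h : s ∣ t) : s = t := by
  have hpodd : p % 2 = 1 := hp.eq_two_or_odd.resolve_left hp2
  have hple : p ≤ q := Nat.le_of_dvd (by omega) hpq
  have hqq : q * 5 ≤ q ^ 2 := by rw [sq]; exact Nat.mul_le_mul_left q hq
  have hp1 : ∀ n, p ∣ n + 1 → ¬ p ∣ n := fun n h1 h0 => hp.not_dvd_one ((Nat.dvd_add_right h0).1 h1)
  have hpsq : p ∣ q ^ 2 := dvd_pow hpq two_ne_zero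
  have nA : ¬ p ∣ q + 1 := fun hd => hp.not_dvd_one ((Nat.dvd_add_right hpq).1 hd)
  have nB : ¬ p ∣ q - 1 := hp1 _ (by rwa [show q - 1 + 1 = q by omega])
  have nC : ¬ p ∣ q ^ 2 - 1 := hp1 _ (by rwa [show q ^ 2 - 1 + 1 = q ^ 2 by omega])
  have nD : ¬ p ∣ q ^ 2 + q + 1 := fun hd =>
    hp.not_dvd_one ((Nat.dvd_add_right (dvd_add hpsq hpq)).1 hd)
  have nE : ¬ p ∣ q ^ 2 - q + 1 := fun hd =>
    hp.not_dvd_one ((Nat.dvd_add_right (Nat.dvd_sub hpsq hpq)).1 hd)
  have pA : p ∣ p * (q + 1) := dvd_mul_right _ _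
  have pB : p ∣ p * (q - 1) := dvd_mul_right _ _
  have pP : p ∣ p ^ 2 := dvd_pow_self p two_ne_zero
  -- divisors prime to `p` of `p * n` divide `n`
  have cop : ∀ {a n : ℕ}, ¬ p ∣ a → a ∣ p * n → a ∣ n := fun ha h' =>
    (hp.coprime_iff_not_dvd.2 ha).symm.dvd_of_dvd_mul_left h'
  have hle : ∀ {a n : ℕ}, 0 < n → a ∣ n → a ≤ n := fun hn h' => Nat.le_of_dvd hn h'
  have canc : ∀ {a n : ℕ}, p * a ∣ p * n → a ∣ n := fun h' => (Nat.mul_dvd_mul_iff_left hp.pos).1 h'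
  rcases hs with rfl | rfl | rfl | rfl | rfl | rfl <;> rcases ht with rfl | rfl | rfl | rfl | rfl | rfl <;>
    try rfl
  all_goals exfalso
  all_goals first
    | exact nC (pA.trans h)
    | exact nD (pA.trans h)
    | exact nE (pA.trans h)
    | exact nC (pB.trans h)
    | exact nD (pB.trans h)
    | exact nE (pB.trans h)
    | exact nC (pP.trans h)
    | exact nD (pP.trans h)
    | exact nE (pP.trans h)
    | (have := hle (by omega) (cop nC h); omega)
    | (have := hle (by omega) (cop nD h); omega)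
    | (have := hle (by omega) (cop nE h); omega)
    | (rw [sq p] at h; have := hle hp.pos (cop nC h); omega)
    | (rw [sq p] at h; have := hle hp.pos (cop nD h); omega)
    | (rw [sq p] at h; have := hle hp.pos (cop nE h); omega)
    | (have := hle (by omega) (canc h); omega)
    | (rw [sq p] at h; exact nA (canc h))
    | (rw [sq p] at h; exact nB (canc h))
    | (rw [sq p] at h; have := hle hp.pos (canc h); omega)
    | (rw [sq p] at h; rcases (Nat.dvd_prime hp).1 (canc h) with e | e <;> omega)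
    | (have := hle (by omega) (Nat.dvd_sub (canc h) dvd_rfl); omega)
    | (have h2 := Nat.dvd_sub h dvd_rfl; have := hle (by omega) h; omega)
    | (have := hle (by omega) (Nat.dvd_sub h dvd_rfl); omega)

end CfsgLib.Chev.G2Spec
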